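import Groth.Agent.HilbTwoBlock.Hom0

/-! Counting degree-zero homomorphisms of `x₀·(x₀, …, x_{n-1}) + (h)`. -/

open MvPolynomial W4c1hilbpn
open scoped Classical

namespace Groth.Agent.HilbTwoBlock

universe u w

variable {n : ℕ}

/-- a unit exponent -/
noncomputable abbrev e (x : Fin (n + 1)) : Fin (n + 1) →₀ ℕ := Finsupp.single x 1

/-- exponents of the first block -/
noncomputable def gv (i : Fin n) : Fin (n + 1) →₀ ℕ := e 0 + e i.castSucc

/-- vanishing at the middle coordinates -/
def Mid (δ : Fin (n + 1) →₀ ℕ) : Prop := ∀ x : Fin (n + 1), 1 ≤ x.val → x.val < n → δ x = 0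

theorem deg_add {σ : Type*} [Fintype σ] (a b : σ →₀ ℕ) : deg (a + b) = deg a + deg b := by
  simp [deg, Finset.sum_add_distrib]

theorem deg_single {σ : Type*} [Fintype σ] (x : σ) (t : ℕ) : deg (Finsupp.single x t) = t := by
  simp [deg, Finsupp.single_apply]

theorem deg_gv (i : Fin n) : deg (gv i) = 2 := by simp [gv, deg_add, deg_single]

theorem deg_eq_zero {σ : Type*} [Fintype σ] {a : σ →₀ ℕ} (h : deg a = 0) : a = 0 := by
  ext x; simpa [deg] using h ▸ (Finset.sum_eq_zero_iff.1 h x (Finset.mem_univ x))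

theorem exists_sub_single {σ : Type*} [Fintype σ] {δ : σ →₀ ℕ} {x : σ} (hx : 1 ≤ δ x) :
    ∃ r, δ = Finsupp.single x 1 + r ∧ deg δ = 1 + deg r := by
  refine ⟨δ - Finsupp.single x 1, ?_, ?_⟩
  · rw [add_tsub_cancel_of_le (Finsupp.single_le_iff.2 hx)]
  · conv_lhs => rw [← add_tsub_cancel_of_le (Finsupp.single_le_iff.2 hx), deg_add, deg_single]

theorem exists_single {σ : Type*} [Fintype σ] {δ : σ →₀ ℕ} (h : deg δ = 1) :
    ∃ x, δ = Finsupp.single x 1 := by
  obtain ⟨x, -, hx⟩ : ∃ x ∈ (Finset.univ : Finset σ), δ x ≠ 0 :=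
    Finset.exists_ne_zero_of_sum_ne_zero (by show deg δ ≠ 0; omega)
  obtain ⟨r, hr, hd⟩ := exists_sub_single (x := x) (δ := δ) (by omega)
  exact ⟨x, by rw [hr, deg_eq_zero (a := r) (by omega), add_zero]⟩

theorem eq_pair {σ : Type*} [Fintype σ] {δ : σ →₀ ℕ} {x : σ} (hx : 1 ≤ δ x) (h : deg δ = 2) :
    ∃ y, δ = Finsupp.single x 1 + Finsupp.single y 1 := by
  obtain ⟨r, hr, hd⟩ := exists_sub_single hx
  obtain ⟨y, hy⟩ := exists_single (δ := r) (by omega)
  exact ⟨y, by rw [hr, hy]⟩

theorem e_apply (x y : Fin (n + 1)) : e x y = if x = y then 1 else 0 := Finsupp.single_apply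

theorem gv_sup_sub {i j : Fin n} (h : i ≠ j) : gv i ⊔ gv j - gv i = e j.castSucc := by
  ext x
  have hij : i.castSucc ≠ j.castSucc := fun hh => h (Fin.castSucc_injective _ hh)
  simp only [gv, Finsupp.tsub_apply, Finsupp.sup_apply, Finsupp.add_apply, e_apply]
  by_cases h0 : (0 : Fin (n + 1)) = x <;> by_cases hi : i.castSucc = x <;> by_cases hj : j.castSucc = x <;>
    simp [h0, hi, hj] <;> exact hij (hi.trans hj.symm)

theorem sh_add {σ : Type*} {k : Type*} [Field k] (b : (σ →₀ ℕ) → k) (μ δ : σ →₀ ℕ) : sh b μ (δ + μ) = b δ := by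
  rw [sh, if_pos le_add_self, add_tsub_cancel_right]

section Count

variable {k : Type u} [Field k] {κ : Type w} [Fintype κ] (h : κ → Fin (n + 1) →₀ ℕ)
  (N : (Fin (n + 1) →₀ ℕ) → Prop) (b : Fin n) (X : Finset (Fin n × (Fin (n + 1) →₀ ℕ)))

/-- all generators -/
noncomputable def gen : Fin n ⊕ κ → Fin (n + 1) →₀ ℕ := Sum.elim gv h

/-- the linear coordinates of the first block -/
noncomputable def Ls : Finset (Fin (n + 1)) :=
  Finset.univ.filter fun x => x ≠ 0 ∧ Std (gen h) (e b.castSucc + e x) ∧ (b, e b.castSucc + e x) ∉ X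

variable {TB : Type*} (CB : TB → κ → (Fin (n + 1) →₀ ℕ) → Prop) (repB : TB → κ × (Fin (n + 1) →₀ ℕ))

/-- classes of coordinates -/
def Cls : ((Fin n ⊕ ↥(Ls h b X)) ⊕ ↥X) ⊕ TB → Fin n ⊕ κ → (Fin (n + 1) →₀ ℕ) → Prop
  | .inl (.inl (.inl c)), .inl i, δ => i = c ∧ δ = e 0 + e (Fin.last n)
  | .inl (.inl (.inr x)), .inl i, δ =>
      1 ≤ i.val ∧ δ = e i.castSucc + e x.1 ∧ Std (gen h) δ ∧ (i, δ) ∉ X
  | .inl (.inr y), .inl i, δ => (i, δ) = y.1
  | .inr t, .inr j, δ => CB t j δ
  | _, _, _ => False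

/-- representatives -/
noncomputable def repT : ((Fin n ⊕ ↥(Ls h b X)) ⊕ ↥X) ⊕ TB → (Fin n ⊕ κ) × (Fin (n + 1) →₀ ℕ)
  | .inl (.inl (.inl c)) => (.inl c, e 0 + e (Fin.last n))
  | .inl (.inl (.inr x)) => (.inl b, e b.castSucc + e x.1)
  | .inl (.inr y) => (.inl y.1.1, y.1.2)
  | .inr t => (.inr (repB t).1, (repB t).2)

theorem count [Fintype TB] (hb : 1 ≤ b.val) (one : Fin (n + 1)) (hone : one.val = 1) (h1n : 1 < n)
    (hStd : ∀ δ, Std (gen h) δ ↔ (δ 0 = 0 ∧ N δ) ∨ (δ 0 = 1 ∧ Mid δ))
    (h0 : ∀ j, h j 0 = 0) (h1 : ∀ j, 1 ≤ h j one)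
    (h2 : ∀ j, 2 ≤ h j one ∨ ∃ x : Fin (n + 1), 1 ≤ x.val ∧ x.val < n ∧ x ≠ one ∧ 1 ≤ h j x)
    (hX : ∀ y ∈ X, y.2 0 = 0 ∧ 1 ≤ y.2 one ∧ Std (gen h) y.2 ∧ deg y.2 = 2 ∧
      ∀ m : Fin n, m ≠ y.1 → ¬ Std (gen h) (y.2 + e m.castSucc))
    (hlink : ∀ (i : Fin n) δ, i ≠ b → δ 0 = 0 → Std (gen h) δ → deg δ = 2 → (i, δ) ∉ X →
      Std (gen h) (δ + e b.castSucc))
    (hoff : ∀ δ, δ b.castSucc = 0 → δ 0 = 0 → Std (gen h) δ → deg δ = 2 → (b, δ) ∉ X →
      ∃ m : Fin n, m ≠ b ∧ Std (gen h) (δ + e m.castSucc))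
    (hcross : ∀ (i : Fin n) j δ, δ 0 = 0 → Std (gen h) δ → (1 ≤ δ i.castSucc ∨ 1 ≤ δ one) →
      ¬ Std (gen h) (δ + (gv i ⊔ h j - gv i)))
    (hBdeg : ∀ t j δ, CB t j δ → Std (gen h) δ ∧ deg δ = deg (h j) ∧ (δ 0 = 1 ∨ ¬ Mid δ))
    (hBrel : ∀ t i j δ, Std (gen h) δ →
      ((h i ⊔ h j - h i ≤ δ ∧ CB t i (δ - (h i ⊔ h j - h i))) ↔
        (h i ⊔ h j - h j ≤ δ ∧ CB t j (δ - (h i ⊔ h j - h j)))))
    (hBrep : ∀ t t', CB t (repB t').1 (repB t').2 ↔ t = t')
    (hBzero : ∀ a ∈ Sol (k := k) (gen h), (∀ t, a (.inr (repB t).1) (repB t).2 = 0) →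
      ∀ j δ, a (.inr j) δ = 0) :
    Module.finrank k ↥(Sol (k := k) (gen h)) = n + (Ls h b X).card + X.card + Fintype.card TB := by
  have hlast0 : (Fin.last n) ≠ (0 : Fin (n + 1)) := fun hh => by
    have := congrArg Fin.val hh; simp at this; omega
  have hone0 : one ≠ 0 := fun hh => by rw [hh] at hone; simp at hone
  have hcl : ∀ i : Fin n, i.castSucc ≠ Fin.last n := fun i => Fin.castSucc_ne_last i
  have stdc : Std (gen h) (e (0 : Fin (n+1)) + e (Fin.last n)) := by
    refine (hStd _).2 (Or.inr ⟨by simp [e_apply, hlast0], fun x hx hxn => ?_⟩)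
    have : (0 : Fin (n+1)) ≠ x := fun hh => by rw [← hh] at hx; simp at hx
    have : Fin.last n ≠ x := fun hh => by rw [← hh] at hxn; simp at hxn
    simp [e_apply, *]
  have not_mid_zero : ∀ δ, Std (gen h) δ → δ 0 ≤ 1 := fun δ hδ => by
    rcases (hStd δ).1 hδ with ⟨hh, -⟩ | ⟨hh, -⟩ <;> omega
  have mid_of : ∀ δ, Std (gen h) δ → δ 0 = 1 → Mid δ := fun δ hδ hh => by
    rcases (hStd δ).1 hδ with ⟨hh', -⟩ | ⟨-, hm⟩
    · omega
    · exact hm
  have isolC : ∀ m : Fin n, ¬ Std (gen h) (e (0 : Fin (n+1)) + e (Fin.last n) + e m.castSucc) := fun m hs => by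
    by_cases hm : m.castSucc = 0
    · have := not_mid_zero _ hs; simp [e_apply, hm, hlast0] at this
    · have hv : 1 ≤ m.val := by
        by_contra hc
        exact hm (Fin.ext (by simp; omega))
      have := mid_of _ hs (by simp [e_apply, hm, hlast0]) m.castSucc (by simpa using hv) (by simp)
      simp [e_apply] at this
  -- values of basis elements satisfy the relations
  have hrel : ∀ t l l' δ, Std (gen h) δ →
      ((gen h l ⊔ gen h l' - gen h l ≤ δ ∧ Cls h b X CB t l (δ - (gen h l ⊔ gen h l' - gen h l))) ↔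
        (gen h l ⊔ gen h l' - gen h l' ≤ δ ∧ Cls h b X CB t l' (δ - (gen h l ⊔ gen h l' - gen h l')))) := by
    intro t
    have crossA : ∀ (i : Fin n) (j : κ) δ, Std (gen h) δ →
        ¬ (gv i ⊔ h j - gv i ≤ δ ∧ Cls h b X CB t (.inl i) (δ - (gv i ⊔ h j - gv i))) := by
      rintro i j δ hδ ⟨hle, hc⟩
      set μ := gv i ⊔ h j - gv i with hμ
      set δ₁ := δ - μ with hδ₁
      have hδ' : δ = δ₁ + μ := (tsub_add_cancel_of_le hle).symm
      have hs1 : Std (gen h) δ₁ := fun l hl => hδ l (hl.trans tsub_le_self)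
      have hA : δ₁ = e 0 + e (Fin.last n) ∨ (δ₁ 0 = 0 ∧ (1 ≤ δ₁ i.castSucc ∨ 1 ≤ δ₁ one)) := by
        rcases t with ((c | x) | y) | t
        · exact Or.inl hc.2
        · obtain ⟨hi, he, -, -⟩ := hc
          have hx := (Finset.mem_filter.1 x.2).2.1
          have hi0 : i.castSucc ≠ 0 := fun hh => by
            have := congrArg Fin.val hh; simp at this; omega
          exact Or.inr ⟨by rw [he]; simp [e_apply, hi0, hx], Or.inl (by rw [he]; simp [e_apply])⟩
        · have hy := hX _ y.2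
          rw [← show (i, δ₁) = y.1 from hc] at hy
          exact Or.inr ⟨hy.1, Or.inr hy.2.1⟩
        · exact hc.elim
      rcases hA with hA | ⟨hA0, hA⟩
      · have hμ0 : μ 0 = 0 := by rw [hμ]; simp [h0]
        have hM := mid_of δ hδ (by rw [hδ', hA]; simp [hμ0, e_apply, hlast0])
        obtain ⟨x, hx1, hxn, hx⟩ : ∃ x : Fin (n + 1), 1 ≤ x.val ∧ x.val < n ∧ 1 ≤ μ x := by
          have hg : ∀ x : Fin (n+1), x ≠ 0 → gv i x = if i.castSucc = x then 1 else 0 := fun x hx => by
            simp [gv, e_apply, Ne.symm hx]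
          by_cases hi : i.castSucc = one
          · rcases h2 j with h2 | ⟨x, hx1, hxn, hxo, hx⟩
            · exact ⟨one, by omega, by omega, by rw [hμ]; simp [hg one hone0, hi]; omega⟩
            · have hxz : x ≠ 0 := fun hh => by rw [hh] at hx1; simp at hx1
              refine ⟨x, hx1, hxn, ?_⟩
              rw [hμ]; simp [hg x hxz, hi, Ne.symm hxo]; omega
          · exact ⟨one, by omega, by omega, by rw [hμ]; simp [hg one hone0, hi]; exact h1 j⟩
        have := hM x hx1 hxn
        rw [hδ'] at this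
        simp at this
        omega
      · exact hcross i j δ₁ hA0 hs1 hA (hδ' ▸ hδ)
    have crossB : ∀ (i : Fin n) (j : κ) δ, Std (gen h) δ →
        ¬ (gv i ⊔ h j - h j ≤ δ ∧ Cls h b X CB t (.inr j) (δ - (gv i ⊔ h j - h j))) := by
      rintro i j δ hδ ⟨hle, hc⟩
      set μ := gv i ⊔ h j - h j with hμ
      rcases t with ((c | x) | y) | t
      iterate 3 exact hc.elim
      obtain ⟨-, -, hB⟩ := hBdeg t j _ hc
      have hμ0 : 1 ≤ μ 0 := by rw [hμ]; simp [h0, gv, e_apply]
      have hd := congrArg (fun f : Fin (n+1) →₀ ℕ => f 0) (tsub_add_cancel_of_le hle)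
      simp only [Finsupp.add_apply] at hd
      have := not_mid_zero δ hδ
      rcases hB with hB | hB
      · omega
      · refine hB fun x hx hxn => ?_
        have := mid_of δ hδ (by omega) x hx hxn
        simp; omega
    rintro (i | i) (j | j) δ hδ
    · by_cases hij : i = j
      · subst hij; exact Iff.rfl
      have e1 : gen h (.inl i) ⊔ gen h (.inl j) - gen h (.inl i) = e j.castSucc := gv_sup_sub hij
      have e2 : gen h (.inl i) ⊔ gen h (.inl j) - gen h (.inl j) = e i.castSucc := by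
        rw [sup_comm]; exact gv_sup_sub (Ne.symm hij)
      rw [e1, e2]
      have key : ∀ (i j : Fin n), i ≠ j →
          (e j.castSucc ≤ δ ∧ Cls h b X CB t (.inl i) (δ - e j.castSucc)) →
          (e i.castSucc ≤ δ ∧ Cls h b X CB t (.inl j) (δ - e i.castSucc)) := by
        rintro i j hij ⟨hle, hc⟩
        have hδ' : δ = (δ - e j.castSucc) + e j.castSucc := (tsub_add_cancel_of_le hle).symm
        rcases t with ((c | x) | y) | t
        · rw [hc.2] at hδ'
          exact absurd (hδ' ▸ hδ) (isolC j)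
        · obtain ⟨hi, he, -, -⟩ := hc
          rw [he] at hδ'
          have hj0 : 1 ≤ j.val := by
            by_contra hc
            have hj : j.castSucc = 0 := Fin.ext (by simp; omega)
            have hx := (Finset.mem_filter.1 x.2).2.1
            have hi0 : i.castSucc ≠ 0 := fun hh => by
              have := congrArg Fin.val hh; simp at this; omega
            have := mid_of δ hδ (by rw [hδ']; simp [e_apply, hi0, hx, hj]) i.castSucc (by simpa using hi) (by simp)
            rw [hδ'] at this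
            simp [e_apply] at this
          have hsub : δ - e i.castSucc = e j.castSucc + e x.1 := by
            rw [hδ', show e i.castSucc + e x.1 + e j.castSucc = e j.castSucc + e x.1 + e i.castSucc by abel,
              add_tsub_cancel_right]
          refine ⟨by rw [hδ', add_assoc]; exact le_self_add, hj0, hsub, fun l hl => hδ l (hl.trans tsub_le_self), ?_⟩
          intro hmem
          refine (hX _ hmem).2.2.2.2 i hij ?_
          rw [show δ - e i.castSucc + e i.castSucc = δ from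
            tsub_add_cancel_of_le (by rw [hδ', add_assoc]; exact le_self_add)]
          exact hδ
        · have hy := hX _ y.2
          rw [← show (i, δ - e j.castSucc) = y.1 from hc] at hy
          exact absurd (hδ' ▸ hδ) (hy.2.2.2.2 j (Ne.symm hij))
        · exact hc.elim
      exact ⟨key i j hij, key j i (Ne.symm hij)⟩
    · exact iff_of_false (crossA i j δ hδ) (crossB i j δ hδ)
    · rw [sup_comm]; exact iff_of_false (crossB j i δ hδ) (crossA j i δ hδ)
    · rcases t with ((c | x) | y) | t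
      iterate 3 exact iff_of_false (fun hh => hh.2) (fun hh => hh.2)
      exact hBrel t i j δ hδ
  have hdeg : ∀ t l δ, Cls h b X CB t l δ → Std (gen h) δ ∧ deg δ = deg (gen h l) := by
    rintro (((c | x) | y) | t) (i | j) δ hc
    all_goals (try exact hc.elim)
    · obtain ⟨-, rfl⟩ := hc; exact ⟨stdc, by simp [gen, deg_gv, deg_add, deg_single]⟩
    · obtain ⟨-, rfl, hs, -⟩ := hc; exact ⟨hs, by simp [gen, deg_gv, deg_add, deg_single]⟩
    · have hy := hX _ y.2
      rw [← show (i, δ) = y.1 from hc] at hy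
      exact ⟨hy.2.2.1, by rw [hy.2.2.2.1]; simp [gen, deg_gv]⟩
    · exact ⟨(hBdeg t j δ hc).1, (hBdeg t j δ hc).2.1⟩
  let ind : ((Fin n ⊕ ↥(Ls h b X)) ⊕ ↥X) ⊕ TB → Fin n ⊕ κ → (Fin (n + 1) →₀ ℕ) → k :=
    fun t l δ => if Cls h b X CB t l δ then 1 else 0
  have hind : ∀ t, ind t ∈ Sol (k := k) (gen h) := fun t => ⟨fun l δ hne => hdeg t l δ (by
      by_contra hc; exact hne (if_neg hc)), fun l l' δ hδ => by
    simp only [sh, ind, ← ite_and]
    exact if_congr (hrel t l l' δ hδ) rfl rfl⟩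
  rw [finrank_sol (k := k) (repT h b X repB) (fun v => ∑ t, v t • ind t)
    (fun v => Submodule.sum_mem _ fun t _ => Submodule.smul_mem _ _ (hind t)) ?_ ?_]
  · simp only [Fintype.card_sum, Fintype.card_fin, Fintype.card_coe]
  · intro v t
    have hx0 : ∀ x : ↥(Ls h b X), (e b.castSucc + e x.1) 0 = 0 := fun x => by
      have hx := (Finset.mem_filter.1 x.2).2.1
      have hb0 : b.castSucc ≠ 0 := fun hh => by have := congrArg Fin.val hh; simp at this; omega
      simp [e_apply, hx, hb0]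
    have hiff : ∀ t', Cls h b X CB t' (repT h b X repB t).1 (repT h b X repB t).2 ↔ t' = t := by
      intro t'
      rcases t with ((c | x) | y) | t <;> rcases t' with ((c' | x') | y') | t' <;>
        simp only [repT, Cls, Sum.inl.injEq, Sum.inr.injEq, reduceCtorEq, iff_false, not_false_eq_true]
      · simp [eq_comm]
      · rintro ⟨hc, he, -, -⟩
        have := congrArg (fun f : Fin (n+1) →₀ ℕ => f 0) he
        have hx := (Finset.mem_filter.1 x'.2).2.1
        have hc0 : c.castSucc ≠ 0 := fun hh => by have := congrArg Fin.val hh; simp at this; omega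
        simp [e_apply, hlast0, hx, hc0] at this
      · intro hh
        have := (hX _ y'.2).1
        rw [← hh] at this
        simp [e_apply, hlast0] at this
      · rintro ⟨-, hh⟩
        have := congrArg (fun f : Fin (n+1) →₀ ℕ => f 0) hh
        rw [hx0 x] at this
        simp [e_apply, hlast0] at this
      · constructor
        · rintro ⟨-, he, -, -⟩
          exact Subtype.ext (Finsupp.single_left_injective one_ne_zero (add_left_cancel he)).symm
        · rintro rfl
          exact ⟨hb, rfl, (Finset.mem_filter.1 x'.2).2.2.1, (Finset.mem_filter.1 x'.2).2.2.2⟩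
      · intro hh
        exact (Finset.mem_filter.1 x.2).2.2.2 (hh ▸ y'.2)
      · rintro ⟨-, hh⟩
        have := (hX _ y.2).1
        rw [hh] at this
        simp [e_apply, hlast0] at this
      · rintro ⟨-, -, -, hh⟩
        exact hh y.2
      · exact ⟨fun hh => Subtype.ext hh.symm, fun hh => by rw [hh]⟩
      · exact hBrep t' t
    simp only [Finset.sum_apply, Pi.smul_apply, ind, smul_eq_mul, mul_ite, mul_one, mul_zero, hiff,
      Finset.sum_ite_eq', Finset.mem_univ, if_true]
  · intro a ha hz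
    have hval : ∀ i j : Fin n, i ≠ j → ∀ δ, Std (gen h) (δ + e j.castSucc) →
        a (.inl i) δ = if 1 ≤ δ i.castSucc then a (.inl j) (δ + e j.castSucc - e i.castSucc) else 0 := by
      intro i j hij δ hs
      have e1 : gen h (.inl i) ⊔ gen h (.inl j) - gen h (.inl i) = e j.castSucc := gv_sup_sub hij
      have e2 : gen h (.inl i) ⊔ gen h (.inl j) - gen h (.inl j) = e i.castSucc := by
        rw [sup_comm]; exact gv_sup_sub (Ne.symm hij)
      have hr := ha.2 (.inl i) (.inl j) _ hs
      rw [e1, e2, sh_add] at hr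
      rw [hr, sh]
      have hne : j.castSucc ≠ i.castSucc := fun hh => hij (Fin.castSucc_injective _ hh).symm
      refine if_congr ?_ rfl rfl
      rw [Finsupp.single_le_iff, Finsupp.add_apply, e_apply, if_neg hne, add_zero]
    have hA : ∀ (i : Fin n) δ, a (.inl i) δ = 0 := by
      intro i δ
      by_contra hne
      obtain ⟨hs, hd⟩ := ha.1 _ δ hne
      rw [show gen h (.inl i) = gv i from rfl, deg_gv] at hd
      by_cases hmem : (i, δ) ∈ X
      · exact hne (hz (.inl (.inr ⟨_, hmem⟩)))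
      rcases (hStd δ).1 hs with ⟨hd0, -⟩ | ⟨hd0, hmid⟩
      swap
      · obtain ⟨y, rfl⟩ := eq_pair (x := (0 : Fin (n+1))) (by omega) hd
        have hy : y = Fin.last n := by
          have hy0 : y ≠ 0 := fun hh => by rw [hh] at hd0; simp at hd0
          by_contra hc
          have hv : y.val < n := lt_of_le_of_ne (Nat.le_of_lt_succ y.2) fun hh => hc (Fin.ext hh)
          have hv0 : 1 ≤ y.val := by
            by_contra h'; exact hy0 (Fin.ext (by rw [Fin.val_zero]; omega))
          have := hmid y hv0 hv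
          simp at this
        subst hy
        exact hne (hz (.inl (.inl (.inl i))))
      have hi : i = b ∨ i ≠ b := em _
      have rep_zero : ∀ x : Fin (n + 1), x ≠ 0 → a (.inl b) (e b.castSucc + e x) = 0 := fun x hx => by
        by_contra hc
        by_cases hm : (b, e b.castSucc + e x) ∈ X
        · exact hc (hz (.inl (.inr ⟨_, hm⟩)))
        · exact hc (hz (.inl (.inl (.inr ⟨x, Finset.mem_filter.2 ⟨Finset.mem_univ _, hx, (ha.1 _ _ hc).1, hm⟩⟩))))
      rcases hi with rfl | hib
      · by_cases hb1 : 1 ≤ δ i.castSucc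
        · obtain ⟨x, rfl⟩ := eq_pair hb1 hd
          exact hne (rep_zero x fun hh => by rw [hh] at hd0; simp at hd0)
        · obtain ⟨m, hm, hsm⟩ := hoff δ (by omega) hd0 hs hd hmem
          exact hne (by rw [hval i m (Ne.symm hm) δ hsm, if_neg hb1])
      · have hv := hval i b hib δ (hlink i δ hib hd0 hs hd hmem)
        by_cases hi1 : 1 ≤ δ i.castSucc
        · rw [if_pos hi1] at hv
          obtain ⟨x, rfl⟩ := eq_pair hi1 hd
          rw [show Finsupp.single i.castSucc 1 + Finsupp.single x 1 + e b.castSucc - e i.castSucc =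
            e b.castSucc + e x by
              rw [show Finsupp.single i.castSucc 1 + Finsupp.single x 1 + e b.castSucc = e b.castSucc + e x + e i.castSucc by
                simp only [e]; abel, add_tsub_cancel_right]] at hv
          exact hne (hv.trans (rep_zero x fun hh => by rw [hh] at hd0; simp at hd0))
        · exact hne (by rw [hv, if_neg hi1])
    funext l δ
    rcases l with i | j
    · exact hA i δ
    · exact hBzero a ha (fun t => hz (.inr t)) j δ

end Count

end Groth.Agent.HilbTwoBlock
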