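import Groth.Agent.HilbTwoBlock.Count

/-! The two families `x₀·(x₀,…,x_{n-1}) + x₁^q·(x₁,…,x_p)` and `x₀·(x₀,…,x_{n-1}) + (x₁^q)`. -/

open MvPolynomial W4c1hilbpn
open scoped Classical

namespace Groth.Agent.HilbTwoBlock

universe u

variable {n : ℕ}

theorem single_le {σ : Type*} {x : σ} {t : ℕ} {δ : σ →₀ ℕ} : Finsupp.single x t ≤ δ ↔ t ≤ δ x :=
  Finsupp.single_le_iff

theorem std_gen {κ : Type*} (h : κ → Fin (n + 1) →₀ ℕ) (δ : Fin (n + 1) →₀ ℕ) (hn : 0 < n) :
    Std (gen h) δ ↔ (δ 0 = 0 ∨ (δ 0 = 1 ∧ Mid δ)) ∧ ∀ j, ¬ h j ≤ δ := by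
  have hg : ∀ (i : Fin n), gv i ≤ δ ↔ if i.castSucc = 0 then 2 ≤ δ 0 else 1 ≤ δ 0 ∧ 1 ≤ δ i.castSucc := by
    intro i
    by_cases hi : i.castSucc = 0
    · rw [if_pos hi, gv, hi, ← Finsupp.single_add, single_le]
    · rw [if_neg hi]
      constructor
      · intro hle
        have h0 := hle 0; have h1 := hle i.castSucc
        simp [gv, e_apply, hi, Ne.symm hi] at h0 h1
        exact ⟨h0, h1⟩
      · rintro ⟨h0, h1⟩ x
        simp only [gv, Finsupp.add_apply, e_apply]
        split_ifs with a b b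
        · exact absurd (b.trans a.symm) hi
        · subst a; simpa using h0
        · subst b; simpa using h1
        · simp
  constructor
  · intro hs
    refine ⟨?_, fun j => hs (.inr j)⟩
    have hz := hs (.inl ⟨0, hn⟩)
    rw [gen, Sum.elim_inl, hg, if_pos (Fin.ext (by simp))] at hz
    rcases Nat.eq_zero_or_pos (δ 0) with h0 | h0
    · exact Or.inl h0
    refine Or.inr ⟨by omega, fun x hx hxn => ?_⟩
    have hx' := hs (.inl ⟨x.val, hxn⟩)
    have e1 : (⟨x.val, hxn⟩ : Fin n).castSucc = x := rfl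
    rw [gen, Sum.elim_inl, hg, e1, if_neg (fun hh => by rw [hh] at hx; simp at hx)] at hx'
    omega
  · rintro ⟨h0, hh⟩ (i | j)
    · rw [gen, Sum.elim_inl, hg]
      split_ifs with hi
      · rcases h0 with h0 | ⟨h0, -⟩ <;> omega
      · rintro ⟨ha, hb⟩
        rcases h0 with h0 | ⟨-, hm⟩
        · omega
        · have hv : 1 ≤ i.val := by
            by_contra hc; exact hi (Fin.ext (by simp; omega))
          have := hm i.castSucc (by simpa using hv) (by simp)
          omega
    · exact hh j

theorem eq_single_add {σ : Type*} [Fintype σ] {δ : σ →₀ ℕ} {x : σ} {t : ℕ} (hx : t ≤ δ x) :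
    δ = Finsupp.single x t + (δ - Finsupp.single x t) ∧ deg δ = t + deg (δ - Finsupp.single x t) := by
  have h := (add_tsub_cancel_of_le (single_le.2 hx)).symm
  exact ⟨h, by conv_lhs => rw [h, deg_add, deg_single]⟩

/-- a Mid exponent is supported on the first and last coordinates -/
theorem eq_of_mid (hn : 0 < n) {δ : Fin (n + 1) →₀ ℕ} (hm : Mid δ) :
    δ = Finsupp.single 0 (δ 0) + Finsupp.single (Fin.last n) (δ (Fin.last n)) := by
  have hne : (Fin.last n : Fin (n + 1)) ≠ 0 := fun hh => by
    have := congrArg Fin.val hh; simp at this; omega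
  ext x
  simp only [Finsupp.add_apply, Finsupp.single_apply]
  by_cases h0 : (0 : Fin (n + 1)) = x
  · subst h0; simp [hne]
  · by_cases hl : Fin.last n = x
    · subst hl; simp [h0]
    · have hv : x.val < n := lt_of_le_of_ne (Nat.le_of_lt_succ x.2) fun hh => hl (Fin.ext hh.symm)
      have hv0 : 1 ≤ x.val := by
        by_contra hc; exact h0 (Fin.ext (by rw [Fin.val_zero]; omega))
      simp [h0, hl, hm x hv0 hv]

theorem card_degree (q : ℕ) (hn : 0 < n) :
    (((Finset.univ : Finset (Fin (n + 1))).erase 0).finsuppAntidiag q).card = Nat.choose (n + q - 1) (n - 1) := by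
  rw [Finset.card_finsuppAntidiag_nat_eq_choose, Finset.card_erase_of_mem (Finset.mem_univ _), Finset.card_univ,
    Fintype.card_fin, Nat.add_sub_cancel]
  exact Nat.choose_symm_of_eq_add (by omega)

theorem mem_degree {q : ℕ} {ε : Fin (n + 1) →₀ ℕ} :
    ε ∈ ((Finset.univ : Finset (Fin (n + 1))).erase 0).finsuppAntidiag q ↔ ε 0 = 0 ∧ deg ε = q := by
  rw [Finset.mem_finsuppAntidiag]
  constructor
  · rintro ⟨hs, hsupp⟩
    have h0 : ε 0 = 0 := by
      by_contra hc
      simpa using hsupp (Finsupp.mem_support_iff.2 hc)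
    refine ⟨h0, ?_⟩
    rw [deg, ← Finset.add_sum_erase _ _ (Finset.mem_univ 0), h0, zero_add]
    exact hs
  · rintro ⟨h0, hd⟩
    refine ⟨?_, fun x hx => Finset.mem_erase.2 ⟨fun hh => Finsupp.mem_support_iff.1 hx (hh ▸ h0), Finset.mem_univ _⟩⟩
    rw [deg, ← Finset.add_sum_erase _ _ (Finset.mem_univ 0), h0, zero_add] at hd
    exact hd

section Block

variable {k : Type u} [Field k] {p q : ℕ}

/-- the index `j+1` -/
def ix (hp : p < n) (j : Fin p) : Fin (n + 1) := ⟨j.val + 1, by omega⟩

/-- the second block -/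
noncomputable def hv (hp : p < n) (q : ℕ) (j : Fin p) : Fin (n + 1) →₀ ℕ :=
  Finsupp.single ⟨1, by omega⟩ q + e (ix hp j)

/-- standard exponents without `x₀` -/
def NBlock (p q : ℕ) (one : Fin (n + 1)) (δ : Fin (n + 1) →₀ ℕ) : Prop :=
  δ one < q ∨ (δ one = q ∧ ∀ x : Fin (n + 1), 2 ≤ x.val → x.val ≤ p → δ x = 0)

theorem std_block (hp : p < n) (hp2 : 2 ≤ p) (hq : 1 ≤ q) (δ : Fin (n + 1) →₀ ℕ) :
    Std (gen (hv hp q)) δ ↔
      (δ 0 = 0 ∧ NBlock p q ⟨1, by omega⟩ δ) ∨ (δ 0 = 1 ∧ Mid δ) := by
  set one : Fin (n + 1) := ⟨1, by omega⟩ with hone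
  have key : (∀ j, ¬ hv hp q j ≤ δ) ↔ NBlock p q one δ := by
    have hle : ∀ j : Fin p, hv hp q j ≤ δ ↔
        if j.val = 0 then q + 1 ≤ δ one else q ≤ δ one ∧ 1 ≤ δ (ix hp j) := by
      intro j
      by_cases hj : j.val = 0
      · rw [if_pos hj, hv, show ix hp j = one from Fin.ext (by simp [ix, hone, hj]), ← Finsupp.single_add, single_le]
      · rw [if_neg hj]
        have hne : ix hp j ≠ one := fun hh => by
          have := congrArg Fin.val hh; simp [ix, hone] at this; exact hj this
        constructor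
        · intro h
          have h0 := h one; have h1 := h (ix hp j)
          simp [hv, e_apply, hne, Ne.symm hne, ← hone] at h0 h1
          exact ⟨h0, h1⟩
        · rintro ⟨h0, h1⟩ x
          simp only [hv, Finsupp.add_apply, e_apply, ← hone, Finsupp.single_apply]
          split_ifs with a b b
          · exact absurd (b.trans a.symm) hne
          · subst a; simpa using h0
          · subst b; simpa using h1
          · simp
    simp only [hle, NBlock]
    constructor
    · intro h
      have h0 := h ⟨0, by omega⟩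
      simp at h0
      rcases Nat.lt_or_ge (δ one) q with hl | hl
      · exact Or.inl hl
      refine Or.inr ⟨by omega, fun x hx hxp => ?_⟩
      have h1 := h ⟨x.val - 1, by omega⟩
      rw [if_neg (by simp; omega), show ix hp ⟨x.val - 1, by omega⟩ = x from Fin.ext (by simp [ix] <;> omega)] at h1
      by_contra hc
      exact h1 ⟨hl, by omega⟩
    · intro h j
      split_ifs with hj
      · rcases h with h | ⟨h, -⟩ <;> omega
      · rintro ⟨h0, h1⟩
        rcases h with h | ⟨-, h⟩
        · omega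
        · have := h (ix hp j) (by simp [ix] <;> omega) (by simp [ix] <;> omega)
          omega
  rw [std_gen _ _ (by omega), key]
  constructor
  · rintro ⟨h0 | h0, hN⟩
    exacts [Or.inl ⟨h0, hN⟩, Or.inr h0]
  · rintro (⟨h0, hN⟩ | h0)
    · exact ⟨Or.inl h0, hN⟩
    · exact ⟨Or.inr h0, Or.inl (by rw [h0.2 one le_rfl (show 1 < n by omega)]; omega)⟩

theorem deg_hv (hp : p < n) (j : Fin p) : deg (hv hp q j) = q + 1 := by simp [hv, deg_add, deg_single]

theorem hv_sup_sub (hp : p < n) {i j : Fin p} (h : i ≠ j) :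
    hv hp q i ⊔ hv hp q j - hv hp q i = e (ix hp j) := by
  ext x
  have hij : ix hp i ≠ ix hp j := fun hh => h (Fin.ext (by simpa [ix] using congrArg Fin.val hh))
  simp only [hv, Finsupp.tsub_apply, Finsupp.sup_apply, Finsupp.add_apply, e_apply, Finsupp.single_apply]
  by_cases h0 : (⟨1, by omega⟩ : Fin (n + 1)) = x <;> by_cases hi : ix hp i = x <;> by_cases hj : ix hp j = x <;>
    simp [h0, hi, hj] <;> exact hij (hi.trans hj.symm)

/-- coordinates on the values at the second block -/
abbrev TBlock (n p q : ℕ) : Type :=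
  (Fin p ⊕ ↥((((Finset.univ : Finset (Fin (n + 1))).erase 0).finsuppAntidiag q).erase
    (Finsupp.single (1 : Fin (n + 1)) q))) ⊕ (Fin p × Fin (n - p))

theorem count_block (hp : p < n) (hp2 : 2 ≤ p) (hq : 1 ≤ q) (b : Fin n) (hb : 1 ≤ b.val)
    (X : Finset (Fin n × (Fin (n + 1) →₀ ℕ)))
    (hX : ∀ y ∈ X, y.2 0 = 0 ∧ 1 ≤ y.2 ⟨1, by omega⟩ ∧ Std (gen (hv hp q)) y.2 ∧ deg y.2 = 2 ∧
      ∀ m : Fin n, m ≠ y.1 → ¬ Std (gen (hv hp q)) (y.2 + e m.castSucc))
    (hlink : ∀ (i : Fin n) δ, i ≠ b → δ 0 = 0 → Std (gen (hv hp q)) δ → deg δ = 2 → (i, δ) ∉ X →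
      Std (gen (hv hp q)) (δ + e b.castSucc))
    (hoff : ∀ δ, δ b.castSucc = 0 → δ 0 = 0 → Std (gen (hv hp q)) δ → deg δ = 2 → (b, δ) ∉ X →
      ∃ m : Fin n, m ≠ b ∧ Std (gen (hv hp q)) (δ + e m.castSucc)) :
    Module.finrank k ↥(Sol (k := k) (gen (hv hp q))) =
      n + (Ls (hv hp q) b X).card + X.card + (p + (Nat.choose (n + q - 1) (n - 1) - 1) + p * (n - p)) := by
  set one : Fin (n + 1) := ⟨1, by omega⟩ with hone
  have one_eq : (1 : Fin (n + 1)) = one := Fin.ext (by
    rw [Fin.val_one', hone]; exact Nat.mod_eq_of_lt (by omega))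
  have hS : ∀ δ, Std (gen (hv hp q)) δ ↔ (δ 0 = 0 ∧ NBlock p q one δ) ∨ (δ 0 = 1 ∧ Mid δ) := std_block hp hp2 hq
  have hone0 : one ≠ 0 := fun hh => by have := congrArg Fin.val hh; simp [hone] at this
  have hix0 : ∀ j, ix hp j ≠ 0 := fun j hh => by have := congrArg Fin.val hh; simp [ix] at this
  have hlast0 : (Fin.last n : Fin (n + 1)) ≠ 0 := fun hh => by have := congrArg Fin.val hh; simp at this; omega
  have hlast1 : Fin.last n ≠ one := fun hh => by have := congrArg Fin.val hh; simp [hone] at this; omega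
  have std_of : ∀ δ : Fin (n + 1) →₀ ℕ, δ 0 = 0 → δ one < q → Std (gen (hv hp q)) δ :=
    fun δ h0 h1 => (hS δ).2 (Or.inl ⟨h0, Or.inl h1⟩)
  have low : ∀ δ, Std (gen (hv hp q)) δ → δ 0 = 0 → q ≤ δ one →
      δ one = q ∧ ∀ x : Fin (n + 1), 2 ≤ x.val → x.val ≤ p → δ x = 0 := by
    intro δ hs h0 h1
    rcases (hS δ).1 hs with ⟨-, h | h⟩ | ⟨h, -⟩
    · omega
    · exact h
    · omega
  have le_one : ∀ δ, Std (gen (hv hp q)) δ → δ 0 = 0 ∨ (δ 0 = 1 ∧ Mid δ) := fun δ hs =>
    ((hS δ).1 hs).imp And.left id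
  let CB : TBlock n p q → Fin p → (Fin (n + 1) →₀ ℕ) → Prop := fun t j δ =>
    match t with
    | .inl (.inl c) => j = c ∧ δ = e 0 + Finsupp.single (Fin.last n) q
    | .inl (.inr ε) => δ = ε.1 + e (ix hp j) ∧ δ one < q
    | .inr (c, s) => j = c ∧ δ = Finsupp.single one q + e ⟨p + 1 + s.val, by omega⟩
  let two : Fin p := ⟨1, by omega⟩
  let repB : TBlock n p q → Fin p × (Fin (n + 1) →₀ ℕ) := fun t =>
    match t with
    | .inl (.inl c) => (c, e 0 + Finsupp.single (Fin.last n) q)
    | .inl (.inr ε) => (two, ε.1 + e (ix hp two))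
    | .inr (c, s) => (c, Finsupp.single one q + e ⟨p + 1 + s.val, by omega⟩)
  have hε : ∀ {ε : Fin (n + 1) →₀ ℕ}, ε ∈ (((Finset.univ : Finset (Fin (n + 1))).erase 0).finsuppAntidiag q).erase
      (Finsupp.single (1 : Fin (n + 1)) q) ↔ ε 0 = 0 ∧ deg ε = q ∧ ε one < q := by
    intro ε
    rw [Finset.mem_erase, mem_degree, one_eq]
    constructor
    · rintro ⟨hne, h0, hd⟩
      refine ⟨h0, hd, ?_⟩
      by_contra hc
      obtain ⟨he, hd'⟩ := eq_single_add (x := one) (t := q) (δ := ε) (by omega)
      exact hne (by rw [he, deg_eq_zero (a := ε - Finsupp.single one q) (by omega), add_zero])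
    · rintro ⟨h0, hd, h1⟩
      exact ⟨fun hh => by rw [hh] at h1; simp at h1, h0, hd⟩
  have two_ne : ix hp two ≠ one := fun hh => by have := congrArg Fin.val hh; simp [ix, hone, two] at this
  have key := count (k := k) (hv hp q) (NBlock p q one) b X CB repB hb one (by simp [hone]) (by omega)
    (fun δ => hS δ) (fun j => by simp [hv, e_apply, hix0, ← hone, hone0])
    (fun j => by simp only [hv, Finsupp.add_apply, ← hone, Finsupp.single_eq_same]; omega)
    (fun j => by
      by_cases hj : ix hp j = one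
      · exact Or.inl (by simp [hv, e_apply, hj, ← hone]; omega)
      · exact Or.inr ⟨ix hp j, by simp [ix], by simp [ix]; omega, hj, by simp [hv, e_apply]⟩)
    hX hlink hoff ?cross ?deg ?rel ?rep ?zero
  case cross =>
    intro i j δ h0 hs hA hbad
    set μ := gv i ⊔ hv hp q j - gv i with hμ
    by_cases hi : i.castSucc = 0 ∨ 1 ≤ δ i.castSucc
    · refine hbad (.inr j) fun x => ?_
      simp only [gen, Sum.elim_inr, hμ, gv, Finsupp.add_apply, Finsupp.tsub_apply, Finsupp.sup_apply, e_apply]
      by_cases hx0 : (0 : Fin (n + 1)) = x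
      · subst hx0; simp [hv, e_apply, hix0, ← hone, hone0]
      · by_cases hxi : i.castSucc = x
        · subst hxi
          rcases hi with hi | hi
          · exact absurd hi.symm hx0
          · simp [hx0]; omega
        · simp [hx0, hxi]
    · push Not at hi
      have hδ1 : 1 ≤ δ one := hA.resolve_left (by omega)
      have hne : i.castSucc ≠ one := fun hh => by rw [hh] at hi; omega
      refine hbad (.inr ⟨0, by omega⟩) ?_
      rw [gen, Sum.elim_inr, hv, show ix hp ⟨0, by omega⟩ = one from Fin.ext (by simp [ix, hone]),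
        ← Finsupp.single_add, single_le, Finsupp.add_apply]
      show q + 1 ≤ δ one + μ one
      have : q ≤ μ one := by
        simp only [hμ, Finsupp.tsub_apply, Finsupp.sup_apply]
        simp [gv, hv, e_apply, hne, Ne.symm hone0, ← hone]
      omega
  case deg =>
    rintro ((c | ε) | ⟨c, s⟩) j δ hc
    · obtain ⟨-, rfl⟩ := hc
      have h0 : (e (0 : Fin (n + 1)) + Finsupp.single (Fin.last n) q) 0 = 1 := by simp [hlast0]
      refine ⟨(hS _).2 (Or.inr ⟨h0, fun x hx hxn => ?_⟩), ?_, Or.inl h0⟩
      · have : (0 : Fin (n+1)) ≠ x := fun hh => by rw [← hh] at hx; simp at hx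
        have : Fin.last n ≠ x := fun hh => by rw [← hh] at hxn; simp at hxn
        simp [Finsupp.single_apply, *]
      · simp [deg_hv, deg_add, deg_single]; omega
    · obtain ⟨rfl, h1⟩ := hc
      obtain ⟨e0, ed, -⟩ := hε.1 ε.2
      refine ⟨std_of _ (by simp [e0, e_apply, hix0]) h1, by simp [deg_hv, deg_add, deg_single, ed], Or.inr ?_⟩
      exact fun hm => by
        have := hm (ix hp j) (by simp [ix]) (by simp [ix] <;> omega)
        simp [e_apply] at this
    · obtain ⟨-, rfl⟩ := hc
      set y : Fin (n + 1) := ⟨p + 1 + s.val, by omega⟩ with hy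
      have hy0 : y ≠ 0 := fun hh => by have := congrArg Fin.val hh; simp [hy] at this
      have hy1 : y ≠ one := fun hh => by have := congrArg Fin.val hh; simp [hy, hone] at this; omega
      refine ⟨(hS _).2 (Or.inl ⟨by simp [e_apply, hy0, hone0], Or.inr ⟨by simp [e_apply, hy1], fun x hx hxp => ?_⟩⟩),
        by simp [deg_hv, deg_add, deg_single], Or.inr fun hm => ?_⟩
      · have h3 : one ≠ x := fun hh => by rw [← hh] at hx; simp [hone] at hx
        have h4 : y ≠ x := fun hh => by rw [← hh] at hxp; simp [hy] at hxp; omega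
        simp [e_apply, Finsupp.single_apply, h3, h4]
      · have := hm one (by simp [hone]) (by simp [hone]; omega)
        simp at this; omega
  case rel =>
    intro t i j δ hδ
    by_cases hij : i = j
    · subst hij; exact Iff.rfl
    rw [hv_sup_sub hp hij, show hv hp q i ⊔ hv hp q j - hv hp q j = e (ix hp i) by
      rw [sup_comm]; exact hv_sup_sub hp (Ne.symm hij)]
    suffices key : ∀ i j : Fin p, i ≠ j → (e (ix hp j) ≤ δ ∧ CB t i (δ - e (ix hp j))) →
        (e (ix hp i) ≤ δ ∧ CB t j (δ - e (ix hp i))) from ⟨key i j hij, key j i (Ne.symm hij)⟩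
    rintro i j hij ⟨hle, hc⟩
    have hδ' : δ = δ - e (ix hp j) + e (ix hp j) := (tsub_add_cancel_of_le hle).symm
    have hixj : ix hp i ≠ ix hp j := fun hh => hij (Fin.ext (by simpa [ix] using congrArg Fin.val hh))
    rcases t with (c | ε) | ⟨c, s⟩
    · exfalso
      rw [hc.2] at hδ'
      rcases le_one δ hδ with h0 | ⟨-, hm⟩
      · rw [hδ'] at h0; simp at h0
      · have := hm (ix hp j) (by simp [ix]) (by simp [ix] <;> omega)
        rw [hδ'] at this; simp at this
    · obtain ⟨hc, h1⟩ := hc
      obtain ⟨e0, -, e1⟩ := hε.1 ε.2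
      rw [hc] at hδ' h1
      have hsub : δ - e (ix hp i) = ε.1 + e (ix hp j) := by
        rw [hδ', show ε.1 + e (ix hp i) + e (ix hp j) = ε.1 + e (ix hp j) + e (ix hp i) by abel, add_tsub_cancel_right]
      refine ⟨single_le.2 (by rw [hδ']; simp; omega), hsub, ?_⟩
      rw [hsub]
      by_cases hj : ix hp j = one
      · by_contra hc'
        have hge : q ≤ δ one := by
          rw [hδ']; simp [e_apply, hj] at hc' ⊢; omega
        obtain ⟨-, hl⟩ := low δ hδ (by rw [hδ']; simp [e0, e_apply, hix0]) hge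
        have hi1 : ix hp i ≠ one := fun hh => hixj (hh.trans hj.symm)
        have := hl (ix hp i) (by
          have : (ix hp i).val ≠ 1 := fun hh => hi1 (Fin.ext (by simp [hone]; exact hh))
          simp [ix] at this ⊢ <;> omega) (by simp [ix] <;> omega)
        rw [hδ'] at this; simp at this
      · simp [e_apply, hj]; exact e1
    · exfalso
      rw [hc.2] at hδ'
      have h0 : δ 0 = 0 := by
        rw [hδ']; simp [e_apply, hix0, hone0]
      have hge : q ≤ δ one := by rw [hδ']; simp; omega
      obtain ⟨h1, hl⟩ := low δ hδ h0 hge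
      by_cases hj : ix hp j = one
      · rw [hδ'] at h1; simp [hj] at h1; omega
      · have := hl (ix hp j) (by
          have : (ix hp j).val ≠ 1 := fun hh => hj (Fin.ext (by simp [hone]; exact hh))
          simp [ix] at this ⊢ <;> omega) (by simp [ix] <;> omega)
        rw [hδ'] at this; simp at this
  case rep =>
    have v1 : ∀ c : Fin (n+1) → Prop, True := fun _ => trivial
    rintro ((c | ε) | ⟨c, s⟩) ((c' | ε') | ⟨c', s'⟩) <;>
      simp only [CB, repB, Sum.inl.injEq, Sum.inr.injEq, reduceCtorEq, iff_false, Prod.mk.injEq]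
    · simp [eq_comm]
    · obtain ⟨e0, -, -⟩ := hε.1 ε'.2
      rintro ⟨-, hh⟩
      have := congrArg (fun f : Fin (n+1) →₀ ℕ => f 0) hh
      simp [e0, e_apply, hix0, hlast0] at this
    · rintro ⟨-, hh⟩
      have hy : (⟨p + 1 + s'.val, by omega⟩ : Fin (n+1)) ≠ 0 := fun hh => by
        have := congrArg Fin.val hh; simp at this
      have := congrArg (fun f : Fin (n+1) →₀ ℕ => f 0) hh
      simp [e_apply, hlast0, hone0, hy] at this
    · obtain ⟨e0, -, -⟩ := hε.1 ε.2
      rintro ⟨hh, -⟩
      have := congrArg (fun f : Fin (n+1) →₀ ℕ => f 0) hh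
      simp [e0, e_apply, hix0, hlast0] at this
    · obtain ⟨-, -, e1⟩ := hε.1 ε'.2
      constructor
      · rintro ⟨hh, -⟩; exact (Subtype.ext (add_right_cancel hh)).symm
      · rintro rfl; exact ⟨rfl, by simp [e_apply, two_ne]; exact e1⟩
    · rintro ⟨-, h1⟩
      simp at h1
    · rintro ⟨-, hh⟩
      have hy : (⟨p + 1 + s.val, by omega⟩ : Fin (n+1)) ≠ 0 := fun hh => by
        have := congrArg Fin.val hh; simp at this
      have := congrArg (fun f : Fin (n+1) →₀ ℕ => f 0) hh
      simp [e_apply, hlast0, hone0, hy] at this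
    · obtain ⟨-, -, e1⟩ := hε.1 ε'.2
      rintro ⟨-, hh⟩
      have := congrArg (fun f : Fin (n+1) →₀ ℕ => f one) hh
      simp [e_apply, two_ne] at this
      omega
    · constructor
      · rintro ⟨rfl, hh⟩
        refine ⟨rfl, ?_⟩
        have := Finsupp.single_left_injective one_ne_zero (add_left_cancel hh)
        exact Fin.ext (by have := congrArg Fin.val this; simp at this; omega)
      · rintro ⟨rfl, rfl⟩; exact ⟨rfl, rfl⟩
  case zero =>
    intro a ha hz j δ
    by_contra hne
    obtain ⟨hs, hd⟩ := ha.1 _ δ hne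
    rw [show gen (hv hp q) (.inr j) = hv hp q j from rfl, deg_hv] at hd
    rcases le_one δ hs with h0 | ⟨h0, hm⟩
    swap
    · have he := eq_of_mid (by omega) hm
      have hl : δ (Fin.last n) = q := by
        rw [he, deg_add, deg_single, deg_single] at hd; omega
      rw [he, h0, hl] at hne
      exact hne (hz (.inl (.inl j)))
    have hval : ∀ i : Fin p, i ≠ j → Std (gen (hv hp q)) (δ + e (ix hp i)) →
        a (.inr j) δ = if 1 ≤ δ (ix hp j) then a (.inr i) (δ + e (ix hp i) - e (ix hp j)) else 0 := by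
      intro i hij hsi
      have hr := ha.2 (.inr j) (.inr i) _ hsi
      rw [show gen (hv hp q) (.inr j) = hv hp q j from rfl, show gen (hv hp q) (.inr i) = hv hp q i from rfl,
        hv_sup_sub hp (Ne.symm hij), show hv hp q j ⊔ hv hp q i - hv hp q i = e (ix hp j) by
          rw [sup_comm]; exact hv_sup_sub hp hij, sh_add] at hr
      rw [hr, sh]
      have hne : ix hp i ≠ ix hp j := fun hh => hij (Fin.ext (by simpa [ix] using congrArg Fin.val hh))
      exact if_congr (by rw [single_le, Finsupp.add_apply, e_apply, if_neg hne, add_zero]) rfl rfl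
    by_cases h1 : δ one < q
    · by_cases hj : 1 ≤ δ (ix hp j)
      · obtain ⟨he, hde⟩ := eq_single_add (x := ix hp j) (t := 1) hj
        set ε := δ - Finsupp.single (ix hp j) 1 with hεd
        have hmem := (hε (ε := ε)).2 ⟨by rw [hεd]; simp [h0], by omega, lt_of_le_of_lt (by rw [hεd]; simp) h1⟩
        have hrep : a (.inr two) (ε + e (ix hp two)) = 0 := hz (.inl (.inr ⟨ε, hmem⟩))
        by_cases hjt : j = two
        · subst hjt
          rw [he, add_comm] at hne
          exact hne hrep
        · have := hval two (Ne.symm hjt) (std_of _ (by simp [h0, e_apply, hix0]) (by simp [e_apply, two_ne]; exact h1))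
          rw [if_pos hj, show δ + e (ix hp two) - e (ix hp j) = ε + e (ix hp two) by
            conv_lhs => rw [he]
            rw [show Finsupp.single (ix hp j) 1 + ε + e (ix hp two) = ε + e (ix hp two) + e (ix hp j) by
              simp only [e]; abel, add_tsub_cancel_right], hrep] at this
          exact hne this
      · obtain ⟨i, hij, hsi⟩ : ∃ i : Fin p, i ≠ j ∧ Std (gen (hv hp q)) (δ + e (ix hp i)) := by
          by_cases hjt : j = two
          · subst hjt
            let fst : Fin p := ⟨0, by omega⟩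
            have hf : ix hp fst = one := Fin.ext (by simp [ix, fst, hone])
            have hft : fst ≠ two := fun hh => by have := congrArg Fin.val hh; simp [fst, two] at this
            by_cases hlow : ∀ x : Fin (n + 1), 2 ≤ x.val → x.val ≤ p → δ x = 0
            · refine ⟨fst, hft, (hS _).2 (Or.inl ⟨by simp [h0, e_apply, hf, hone0], ?_⟩)⟩
              by_cases h' : δ one + 1 < q
              · exact Or.inl (by simp [hf]; exact h')
              · refine Or.inr ⟨by simp [hf]; omega, fun x hx hxp => ?_⟩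
                have : one ≠ x := fun hh => by rw [← hh] at hx; simp [hone] at hx
                simp [e_apply, hf, this, hlow x hx hxp]
            · push Not at hlow
              obtain ⟨x, hx, hxp, hxd⟩ := hlow
              have e1 : ix hp ⟨x.val - 1, by omega⟩ = x := Fin.ext (by simp [ix] <;> omega)
              have hx1 : x ≠ one := fun hh => by rw [hh] at hx; simp [hone] at hx
              have hx0 : x ≠ 0 := fun hh => by rw [hh] at hx; simp at hx
              refine ⟨⟨x.val - 1, by omega⟩, fun hh => hj (by rw [← hh, e1]; omega), ?_⟩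
              rw [e1]
              exact std_of _ (by simp [h0, e_apply, hx0]) (by simp [e_apply, hx1]; exact h1)
          · exact ⟨two, Ne.symm hjt, std_of _ (by simp [h0, e_apply, hix0]) (by simp [e_apply, two_ne]; exact h1)⟩
        exact hne (by rw [hval i hij hsi, if_neg hj])
    · obtain ⟨h1', hl⟩ := low δ hs h0 (by omega)
      obtain ⟨he, hde⟩ := eq_single_add (x := one) (t := q) (δ := δ) (by omega)
      obtain ⟨x, hx⟩ := exists_single (δ := δ - Finsupp.single one q) (by omega)
      rw [hx] at he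
      have hx1 : x ≠ one := fun hh => by rw [he, hh] at h1'; simp at h1'
      have hx0 : x ≠ 0 := fun hh => by rw [he, hh] at h0; simp at h0
      have hxv : p < x.val := by
        by_contra hc
        have h2 : 2 ≤ x.val := by
          by_contra hc'
          rcases Nat.eq_zero_or_pos x.val with h | h
          · exact hx0 (Fin.ext (by rw [Fin.val_zero]; exact h))
          · exact hx1 (Fin.ext (by simp [hone]; omega))
        have := hl x h2 (by omega)
        rw [he] at this; simp at this
      have : a (.inr j) δ = 0 := by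
        have := hz (.inr (j, ⟨x.val - p - 1, by omega⟩))
        simp only [repB] at this
        rwa [show (⟨p + 1 + (x.val - p - 1), by omega⟩ : Fin (n+1)) = x from Fin.ext (by simp; omega), ← he] at this
      exact hne this
  rw [key]
  simp only [Fintype.card_sum, Fintype.card_prod, Fintype.card_fin, Fintype.card_coe]
  rw [Finset.card_erase_of_mem, card_degree q (by omega)]
  rw [mem_degree, one_eq]
  exact ⟨by simp [hone0], deg_single _ _⟩

theorem one_eq (hn : 1 < n) : (1 : Fin (n + 1)) = ⟨1, by omega⟩ := Fin.ext (by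
  rw [Fin.val_one']; exact Nat.mod_eq_of_lt (by omega))

theorem std_add (hp : p < n) (hp2 : 2 ≤ p) (hq : 1 ≤ q) {δ : Fin (n + 1) →₀ ℕ} (h0 : δ 0 = 0)
    (hs : Std (gen (hv hp q)) δ) {x : Fin (n + 1)}
    (hx : p < x.val ∨ (2 ≤ x.val ∧ δ ⟨1, by omega⟩ < q)) : Std (gen (hv hp q)) (δ + e x) := by
  have hx0 : x ≠ 0 := fun hh => by rw [hh] at hx; simp at hx
  have hx1 : x ≠ ⟨1, by omega⟩ := fun hh => by rw [hh] at hx; simp at hx; omega
  refine (std_block hp hp2 hq _).2 (Or.inl ⟨by simp [h0, e_apply, hx0], ?_⟩)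
  rcases hx with hx | ⟨-, hx⟩
  · rcases (std_block hp hp2 hq δ).1 hs with ⟨-, h | ⟨h, hl⟩⟩ | ⟨h, -⟩
    · exact Or.inl (by simp [e_apply, hx1]; exact h)
    · refine Or.inr ⟨by simp [e_apply, hx1]; exact h, fun y hy hyp => ?_⟩
      have : x ≠ y := fun hh => by rw [hh] at hx; omega
      simp [e_apply, this, hl y hy hyp]
    · omega
  · exact Or.inl (by simp [e_apply, hx1]; exact hx)

/-- the three two-block families -/
theorem finrank_block_gen (r : ℕ) (hn : 4 ≤ n) (hq : 1 ≤ q) (hr : r + 3 ≤ n)
    (hcase : 2 ≤ r ∨ (r = 1 ∧ 3 ≤ q)) :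
    Module.finrank k ↥(Sol (k := k) (gen (hv (n := n) (show n - r - 1 < n by omega) q))) =
      3 * n - 1 + (n - r - 2) * (r + 1) + Nat.choose (n + q - 1) (n - 1) := by
  have hp : n - r - 1 < n := by omega
  have hp2 : 2 ≤ n - r - 1 := by omega
  let b : Fin n := ⟨n - 1, by omega⟩
  have hb1 : b.castSucc ≠ (⟨1, by omega⟩ : Fin (n + 1)) := fun hh => by
    have := congrArg Fin.val hh; simp [b] at this; omega
  rw [count_block hp hp2 hq b (by simp [b]; omega) ∅ (by simp)
    (fun i δ _ h0 hs _ _ => std_add hp hp2 hq h0 hs (Or.inl (by simp [b]; omega)))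
    (fun δ hb h0 hs hd _ => by
      rcases hcase with hc | ⟨hc, hq3⟩
      · exact ⟨⟨n - 2, by omega⟩, fun hh => by have := congrArg Fin.val hh; simp [b] at this; omega,
          std_add hp hp2 hq h0 hs (Or.inl (by simp; omega))⟩
      · refine ⟨⟨2, by omega⟩, fun hh => by have := congrArg Fin.val hh; simp [b] at this; omega,
          std_add hp hp2 hq h0 hs (Or.inr ⟨by simp, ?_⟩)⟩
        have := Finset.single_le_sum (f := fun x => δ x) (fun _ _ => Nat.zero_le _)
          (Finset.mem_univ (⟨1, by omega⟩ : Fin (n + 1)))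
        simp only [deg] at hd
        omega)]
  have hLs : Ls (hv hp q) b (∅ : Finset (Fin n × (Fin (n + 1) →₀ ℕ))) = Finset.univ.erase 0 := by
    ext x
    simp only [Ls, Finset.mem_filter, Finset.mem_erase, Finset.mem_univ, true_and, and_true, Finset.notMem_empty,
      not_false_eq_true]
    refine ⟨fun h => h.1, fun hx => ⟨hx, ?_⟩⟩
    have hb0 : b.castSucc ≠ 0 := fun hh => by have := congrArg Fin.val hh; simp [b] at this; omega
    have hs : Std (gen (hv hp q)) (e x) := by
      refine (std_block hp hp2 hq _).2 (Or.inl ⟨by simp [e_apply, hx], ?_⟩)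
      by_cases hx1 : x = ⟨1, by omega⟩
      · rcases Nat.lt_or_ge 1 q with h | h
        · exact Or.inl (by simp [e_apply, hx1]; exact h)
        · refine Or.inr ⟨by simp [e_apply, hx1]; omega, fun y hy _ => ?_⟩
          have : x ≠ y := fun hh => by rw [← hh, hx1] at hy; simp at hy
          simp [e_apply, this]
      · exact Or.inl (by simp [e_apply, hx1]; omega)
    rw [add_comm (e b.castSucc) (e x)]
    exact std_add hp hp2 hq (by simp [e_apply, hx]) hs (Or.inl (by simp [b]; omega))
  rw [hLs, Finset.card_empty, Finset.card_erase_of_mem (Finset.mem_univ _), Finset.card_univ, Fintype.card_fin]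
  have h1 : n - (n - r - 1) = r + 1 := by omega
  have h2 : (n - r - 1) * (r + 1) = (n - r - 2) * (r + 1) + (r + 1) := by
    rw [show n - r - 1 = (n - r - 2) + 1 by omega, Nat.succ_mul]
  have hpos : 1 ≤ Nat.choose (n + q - 1) (n - 1) := Nat.choose_pos (by omega)
  rw [h1, h2]
  omega

/-- exponent of the extra coordinate when `q = 1` -/
noncomputable def extraExp (hn : 1 < n) : Fin (n + 1) →₀ ℕ := e ⟨1, by omega⟩ + e (Fin.last n)

theorem extra_spec (hp : p < n) (hp2 : 2 ≤ p) :
    (extraExp (n := n) (by omega)) 0 = 0 ∧ 1 ≤ (extraExp (n := n) (by omega)) ⟨1, by omega⟩ ∧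
      Std (gen (hv hp 1)) (extraExp (n := n) (by omega)) ∧ deg (extraExp (n := n) (by omega)) = 2 ∧
      ∀ m : Fin n, (m.val ≤ p) → ¬ Std (gen (hv hp 1)) (extraExp (n := n) (by omega) + e m.castSucc) := by
  set one : Fin (n + 1) := ⟨1, by omega⟩ with hone
  have hone0 : one ≠ 0 := fun hh => by have := congrArg Fin.val hh; simp [hone] at this
  have hlast0 : (Fin.last n : Fin (n + 1)) ≠ 0 := fun hh => by have := congrArg Fin.val hh; simp at this; omega
  have hlast1 : Fin.last n ≠ one := fun hh => by have := congrArg Fin.val hh; simp [hone] at this; omega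
  have h0 : (extraExp (n := n) (by omega)) 0 = 0 := by simp [extraExp, e_apply, ← hone, hone0, hlast0]
  have h1 : (extraExp (n := n) (by omega)) one = 1 := by simp [extraExp, e_apply, ← hone, hlast1]
  refine ⟨h0, h1.ge, ?_, by simp [extraExp, deg_add, deg_single], fun m hm hs => ?_⟩
  · refine (std_block hp hp2 le_rfl _).2 (Or.inl ⟨h0, Or.inr ⟨h1, fun x hx hxp => ?_⟩⟩)
    have h3 : one ≠ x := fun hh => by rw [← hh] at hx; simp [hone] at hx
    have h4 : Fin.last n ≠ x := fun hh => by rw [← hh] at hxp; simp at hxp; omega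
    simp [extraExp, e_apply, ← hone, h3, h4]
  · rcases (std_block hp hp2 le_rfl _).1 hs with ⟨hz, hN⟩ | ⟨-, hM⟩
    · have hm0 : m.castSucc ≠ 0 := fun hh => by simp [hh] at hz
      rcases hN with h | ⟨h, hl⟩
      · change (extraExp (n := n) (by omega) + e m.castSucc : Fin (n + 1) →₀ ℕ) one < 1 at h
        simp [h1] at h
      · change (extraExp (n := n) (by omega) + e m.castSucc : Fin (n + 1) →₀ ℕ) one = 1 at h
        have hm1 : m.castSucc ≠ one := fun hh => by simp [hh, h1] at h
        have h2 : 2 ≤ m.castSucc.val := by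
          by_contra hc
          rcases Nat.eq_zero_or_pos m.castSucc.val with h' | h'
          · exact hm0 (Fin.ext (by rw [Fin.val_zero]; exact h'))
          · exact hm1 (Fin.ext (by simp [hone]; simp at h' hc; omega))
        have := hl m.castSucc h2 (by simpa using hm)
        simp at this
    · have := hM one le_rfl (show 1 < n by omega)
      rw [Finsupp.add_apply, h1] at this
      omega

theorem eq_extra (hp : p < n) (hp2 : 2 ≤ p) {δ : Fin (n + 1) →₀ ℕ} (h0 : δ 0 = 0)
    (hs : Std (gen (hv hp 1)) δ) (hd : deg δ = 2) (h1 : 1 ≤ δ ⟨1, by omega⟩) :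
    ∃ y : Fin (n + 1), p < y.val ∧ δ = e ⟨1, by omega⟩ + e y := by
  obtain ⟨y, hy⟩ := eq_pair h1 hd
  set one : Fin (n + 1) := ⟨1, by omega⟩ with hone
  refine ⟨y, ?_, hy⟩
  rcases (std_block hp hp2 le_rfl _).1 hs with ⟨-, h | ⟨h, hl⟩⟩ | ⟨h, -⟩
  · change δ one < 1 at h; omega
  · change δ one = 1 at h
    have hy1 : y ≠ one := fun hh => by rw [hy, hh] at h; simp at h
    have hy0 : y ≠ 0 := fun hh => by rw [hy, hh] at h0; simp at h0
    by_contra hc
    have h2 : 2 ≤ y.val := by
      by_contra hc'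
      rcases Nat.eq_zero_or_pos y.val with h' | h'
      · exact hy0 (Fin.ext (by rw [Fin.val_zero]; exact h'))
      · exact hy1 (Fin.ext (by simp [hone]; omega))
    have := hl y h2 (by omega)
    rw [hy] at this
    simp at this
  · omega

theorem finrank_block_r1 (hn : 4 ≤ n) :
    Module.finrank k ↥(Sol (k := k) (gen (hv (n := n) (show n - 2 < n by omega) 1))) = 6 * n - 6 := by
  have hp : n - 2 < n := by omega
  have hp2 : 2 ≤ n - 2 := by omega
  let b : Fin n := ⟨n - 1, by omega⟩
  obtain ⟨x0, x1, xs, xd, xiso⟩ := extra_spec hp hp2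
  set one : Fin (n + 1) := ⟨1, by omega⟩ with hone
  rw [count_block hp hp2 le_rfl b (by simp [b]; omega) {(b, extraExp (n := n) (by omega))}
    (fun y hy => by
      obtain rfl := Finset.mem_singleton.1 hy
      refine ⟨x0, x1, xs, xd, fun m hm => xiso m ?_⟩
      have : m.val ≠ n - 1 := fun hh => hm (Fin.ext hh)
      omega)
    (fun i δ _ h0 hs _ _ => std_add hp hp2 le_rfl h0 hs (Or.inl (by simp [b]; omega)))
    (fun δ hb h0 hs hd hX => by
      by_cases h1 : 1 ≤ δ one
      · obtain ⟨y, hy, he⟩ := eq_extra hp hp2 h0 hs hd h1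
        exfalso
        have hyb : y.val ≠ n - 1 := fun hh => by
          rw [he, show y = b.castSucc from Fin.ext hh] at hb; simp at hb
        have : y = Fin.last n := Fin.ext (by simp; omega)
        rw [he, this] at hX
        exact hX (Finset.mem_singleton.2 rfl)
      · exact ⟨⟨2, by omega⟩, fun hh => by have := congrArg Fin.val hh; simp [b] at this; omega,
          std_add hp hp2 le_rfl h0 hs (Or.inr ⟨by simp, by show δ one < 1; omega⟩)⟩)]
  have hLs : Ls (hv hp 1) b {(b, extraExp (n := n) (by omega))} = Finset.univ.erase 0 := by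
    ext x
    simp only [Ls, Finset.mem_filter, Finset.mem_erase, Finset.mem_univ, true_and, and_true, Finset.mem_singleton,
      Prod.mk.injEq]
    refine ⟨fun h => h.1, fun hx => ⟨hx, ?_, fun hh => ?_⟩⟩
    · have hs : Std (gen (hv hp 1)) (e x) := by
        refine (std_block hp hp2 le_rfl _).2 (Or.inl ⟨by simp [e_apply, hx], ?_⟩)
        by_cases hx1 : x = one
        · refine Or.inr ⟨by simp [e_apply, hx1, ← hone], fun y hy _ => ?_⟩
          have : x ≠ y := fun hh => by rw [← hh, hx1] at hy; simp [hone] at hy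
          simp [e_apply, this]
        · exact Or.inl (by simp [e_apply, ← hone, hx1])
      rw [add_comm (e b.castSucc) (e x)]
      exact std_add hp hp2 le_rfl (by simp [e_apply, hx]) hs (Or.inl (by simp [b]; omega))
    · have := congrArg (fun f : Fin (n + 1) →₀ ℕ => f b.castSucc) hh
      have e1 : one ≠ b.castSucc := fun hh => by have := congrArg Fin.val hh; simp [b, hone] at this; omega
      have e2 : Fin.last n ≠ b.castSucc := fun hh => by have := congrArg Fin.val hh; simp [b] at this; omega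
      simp [extraExp, e_apply, ← hone, e1, e2] at this
  rw [hLs, Finset.card_singleton, Finset.card_erase_of_mem (Finset.mem_univ _), Finset.card_univ, Fintype.card_fin,
    show n + 1 - 1 = n by omega, Nat.choose_symm_of_eq_add (show n = (n - 1) + 1 by omega), Nat.choose_one_right,
    show n - (n - 2) = 2 by omega]
  omega

theorem finrank_block_r0 (hn : 3 ≤ n) :
    Module.finrank k ↥(Sol (k := k) (gen (hv (n := n) (show n - 1 < n by omega) 1))) = 6 * n - 4 := by
  have hp : n - 1 < n := by omega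
  have hp2 : 2 ≤ n - 1 := by omega
  let b : Fin n := ⟨2, by omega⟩
  obtain ⟨x0, x1, xs, xd, xiso⟩ := extra_spec hp hp2
  set one : Fin (n + 1) := ⟨1, by omega⟩ with hone
  let X : Finset (Fin n × (Fin (n + 1) →₀ ℕ)) := Finset.univ.image fun i => (i, extraExp (n := n) (by omega))
  have h1zero : ∀ i δ, δ 0 = 0 → Std (gen (hv hp 1)) δ → deg δ = 2 → (i, δ) ∉ X → δ one = 0 := by
    intro i δ h0 hs hd hX
    by_contra hc
    obtain ⟨y, hy, he⟩ := eq_extra hp hp2 h0 hs hd (show 1 ≤ δ one by omega)
    have : y = Fin.last n := Fin.ext (by simp; omega)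
    rw [he, this] at hX
    exact hX (Finset.mem_image.2 ⟨i, Finset.mem_univ _, rfl⟩)
  rw [count_block hp hp2 le_rfl b (by simp [b]) X
    (fun y hy => by
      obtain ⟨i, -, rfl⟩ := Finset.mem_image.1 hy
      exact ⟨x0, x1, xs, xd, fun m _ => xiso m (by omega)⟩)
    (fun i δ _ h0 hs hd hX => std_add hp hp2 le_rfl h0 hs
      (Or.inr ⟨by simp [b], by show δ one < 1; rw [h1zero i δ h0 hs hd hX]; omega⟩))
    (fun δ hb h0 hs hd hX => by
      have hz := h1zero b δ h0 hs hd hX
      rcases Nat.lt_or_ge 3 n with h3 | h3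
      · exact ⟨⟨3, h3⟩, fun hh => by have := congrArg Fin.val hh; simp [b] at this,
          std_add hp hp2 le_rfl h0 hs (Or.inr ⟨by simp, by show δ one < 1; omega⟩)⟩
      · refine ⟨⟨1, by omega⟩, fun hh => by have := congrArg Fin.val hh; simp [b] at this, ?_⟩
        rw [show (⟨1, by omega⟩ : Fin n).castSucc = one from rfl]
        have hone0 : one ≠ 0 := fun hh => by have := congrArg Fin.val hh; simp [hone] at this
        refine (std_block hp hp2 le_rfl _).2 (Or.inl ⟨by simp [h0, e_apply, hone0],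
          Or.inr ⟨by show (δ + e one : Fin (n + 1) →₀ ℕ) one = 1; simp [hz], fun y hy hyp => ?_⟩⟩)
        have : y = b.castSucc := Fin.ext (by simp [b]; omega)
        subst this
        have : one ≠ b.castSucc := fun hh => by have := congrArg Fin.val hh; simp [b, hone] at this
        simp [e_apply, hb, this])]
  have hLs : Ls (hv hp 1) b X = (Finset.univ.erase 0).erase one := by
    ext x
    simp only [Ls, Finset.mem_filter, Finset.mem_erase, Finset.mem_univ, true_and, and_true]
    have hb0 : b.castSucc ≠ 0 := fun hh => by have := congrArg Fin.val hh; simp [b] at this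
    have hb1 : b.castSucc ≠ one := fun hh => by have := congrArg Fin.val hh; simp [b, hone] at this
    constructor
    · rintro ⟨hx, hs, -⟩
      refine ⟨fun hh => ?_, hx⟩
      subst hh
      rcases (std_block hp hp2 le_rfl _).1 hs with ⟨-, h | ⟨-, hl⟩⟩ | ⟨h, -⟩
      · change (e b.castSucc + e one : Fin (n + 1) →₀ ℕ) one < 1 at h
        simp at h
      · have := hl b.castSucc (by simp [b]) (by simp [b]; omega)
        simp at this
      · simp [e_apply, hb0, hx] at h
    · rintro ⟨hx1, hx⟩
      refine ⟨hx, (std_block hp hp2 le_rfl _).2 (Or.inl ⟨by simp [e_apply, hb0, hx],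
        Or.inl (by show (e b.castSucc + e x : Fin (n + 1) →₀ ℕ) one < 1; simp [e_apply, hb1, hx1])⟩), fun hh => ?_⟩
      obtain ⟨i, -, hi⟩ := Finset.mem_image.1 hh
      have := congrArg (fun z : Fin n × (Fin (n + 1) →₀ ℕ) => z.2 one) hi
      simp [extraExp, e_apply, ← hone, hb1, hx1] at this
  have hone0 : one ≠ 0 := fun hh => by have := congrArg Fin.val hh; simp [hone] at this
  rw [hLs, Finset.card_image_of_injective _ (fun i j h => (Prod.mk.injEq .. ▸ h).1),
    Finset.card_erase_of_mem (Finset.mem_erase.2 ⟨hone0, Finset.mem_univ _⟩),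
    Finset.card_erase_of_mem (Finset.mem_univ _), Finset.card_univ, Fintype.card_fin,
    show n + 1 - 1 = n by omega, Nat.choose_symm_of_eq_add (show n = (n - 1) + 1 by omega), Nat.choose_one_right,
    show n - (n - 1) = 1 by omega]
  simp only [Finset.card_univ, Fintype.card_fin]
  omega

end Block

section Pow

variable {k : Type u} [Field k] {q : ℕ}

/-- the single power -/
noncomputable def hpow (hn : 1 < n) (q : ℕ) : Unit → Fin (n + 1) →₀ ℕ :=
  fun _ => Finsupp.single ⟨1, by omega⟩ q

theorem std_pow (hn : 1 < n) (hq : 1 ≤ q) (δ : Fin (n + 1) →₀ ℕ) :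
    Std (gen (hpow hn q)) δ ↔ (δ 0 = 0 ∧ δ ⟨1, by omega⟩ < q) ∨ (δ 0 = 1 ∧ Mid δ) := by
  rw [std_gen _ _ (by omega)]
  simp only [hpow, single_le, not_le]
  constructor
  · rintro ⟨h0 | h0, h⟩
    exacts [Or.inl ⟨h0, h ()⟩, Or.inr h0]
  · rintro (⟨h0, h⟩ | h0)
    · exact ⟨Or.inl h0, fun _ => h⟩
    · exact ⟨Or.inr h0, fun _ => by rw [h0.2 ⟨1, by omega⟩ le_rfl hn]; omega⟩

/-- coordinates on the values at the power -/
abbrev TPow (n q : ℕ) : Type :=
  Unit ⊕ ↥(((((Finset.univ : Finset (Fin (n + 1))).erase 0).finsuppAntidiag q).erase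
    (Finsupp.single (1 : Fin (n + 1)) q)).erase (Finsupp.single (Fin.last n) q))

theorem finrank_pow (hcase : (n = 3 ∧ 4 ≤ q) ∨ (4 ≤ n ∧ 2 ≤ q)) :
    Module.finrank k ↥(Sol (k := k) (gen (hpow (n := n) (show 1 < n by omega) q))) =
      2 * n - 1 + Nat.choose (n + q - 1) (n - 1) := by
  have hn : 3 ≤ n := by omega
  have hn1 : 1 < n := by omega
  have hq : 2 ≤ q := by omega
  set one : Fin (n + 1) := ⟨1, by omega⟩ with hone
  have hS : ∀ δ, Std (gen (hpow hn1 q)) δ ↔ (δ 0 = 0 ∧ δ one < q) ∨ (δ 0 = 1 ∧ Mid δ) := std_pow hn1 (by omega)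
  have hone0 : one ≠ 0 := fun hh => by have := congrArg Fin.val hh; simp [hone] at this
  have hlast0 : (Fin.last n : Fin (n + 1)) ≠ 0 := fun hh => by have := congrArg Fin.val hh; simp at this; omega
  have hlast1 : Fin.last n ≠ one := fun hh => by have := congrArg Fin.val hh; simp [hone] at this; omega
  let b : Fin n := ⟨n - 1, by omega⟩
  have hb1 : b.castSucc ≠ one := fun hh => by have := congrArg Fin.val hh; simp [b, hone] at this; omega
  have hb0 : b.castSucc ≠ 0 := fun hh => by have := congrArg Fin.val hh; simp [b] at this; omega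
  let CB : TPow n q → Unit → (Fin (n + 1) →₀ ℕ) → Prop := fun t _ δ =>
    match t with
    | .inl _ => δ = e 0 + Finsupp.single (Fin.last n) (q - 1)
    | .inr ε => δ = ε.1
  let repB : TPow n q → Unit × (Fin (n + 1) →₀ ℕ) := fun t =>
    match t with
    | .inl _ => ((), e 0 + Finsupp.single (Fin.last n) (q - 1))
    | .inr ε => ((), ε.1)
  have hε : ∀ {ε : Fin (n + 1) →₀ ℕ},
      ε ∈ ((((Finset.univ : Finset (Fin (n + 1))).erase 0).finsuppAntidiag q).erase
        (Finsupp.single (1 : Fin (n + 1)) q)).erase (Finsupp.single (Fin.last n) q) ↔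
      ε 0 = 0 ∧ deg ε = q ∧ ε one < q ∧ ¬ Mid ε := by
    intro ε
    rw [Finset.mem_erase, Finset.mem_erase, mem_degree, one_eq hn1, ← hone]
    constructor
    · rintro ⟨hl, ho, h0, hd⟩
      refine ⟨h0, hd, ?_, fun hm => hl ?_⟩
      · by_contra hc
        obtain ⟨he, hd'⟩ := eq_single_add (x := one) (t := q) (δ := ε) (by omega)
        exact ho (by rw [he, deg_eq_zero (a := ε - Finsupp.single one q) (by omega), add_zero])
      · have he := eq_of_mid (by omega) hm
        rw [h0, Finsupp.single_zero, zero_add] at he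
        rw [he, deg_single] at hd
        rw [he, hd]
    · rintro ⟨h0, hd, h1, hm⟩
      refine ⟨fun hh => hm fun x hx hxn => ?_, fun hh => by rw [hh] at h1; simp at h1, h0, hd⟩
      have : Fin.last n ≠ x := fun hh => by rw [← hh] at hxn; simp at hxn
      rw [hh]; simp [Finsupp.single_apply, this]
  have hadd : ∀ δ x, δ 0 = 0 → δ one < q → x ≠ one → x ≠ 0 → Std (gen (hpow hn1 q)) (δ + e x) := by
    intro δ x h0 h1 hx1 hx0
    exact (hS _).2 (Or.inl ⟨by simp [h0, e_apply, hx0], by simp [e_apply, hx1]; exact h1⟩)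
  have hlt : ∀ δ, Std (gen (hpow hn1 q)) δ → δ 0 = 0 → δ one < q := fun δ hs h0 => by
    rcases (hS δ).1 hs with ⟨-, h⟩ | ⟨h, -⟩
    · exact h
    · omega
  rw [count (k := k) (hpow hn1 q) (fun δ => δ one < q) b ∅ CB repB (by simp [b]; omega) one (by simp [hone]) hn1 hS
    (fun _ => by simp [hpow, ← hone, hone0]) (fun _ => by simp [hpow, ← hone]; omega)
    (fun _ => Or.inl (by simp [hpow, ← hone]; omega)) (by simp)
    (fun i δ _ h0 hs _ _ => hadd δ _ h0 (hlt δ hs h0) hb1 hb0) ?off ?cross ?deg ?rel ?rep ?zero]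
  case off =>
    intro δ hb h0 hs hd _
    rcases hcase with ⟨h3, hq4⟩ | ⟨h4, -⟩
    · refine ⟨⟨1, hn1⟩, fun hh => by have := congrArg Fin.val hh; simp [b] at this; omega, ?_⟩
      rw [show (⟨1, hn1⟩ : Fin n).castSucc = one from rfl]
      have : δ one ≤ 2 := hd ▸ Finset.single_le_sum (f := fun x => δ x) (fun _ _ => Nat.zero_le _) (Finset.mem_univ one)
      exact (hS _).2 (Or.inl ⟨by simp [h0, e_apply, hone0], by simp; omega⟩)
    · refine ⟨⟨2, by omega⟩, fun hh => by have := congrArg Fin.val hh; simp [b] at this; omega, ?_⟩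
      exact hadd δ _ h0 (hlt δ hs h0) (fun hh => by have := congrArg Fin.val hh; simp [hone] at this)
        (fun hh => by have := congrArg Fin.val hh; simp at this)
  case cross =>
    intro i j δ h0 hs hA hbad
    refine hbad (.inr ()) ?_
    rw [gen, Sum.elim_inr, hpow, single_le, ← hone]
    simp only [Finsupp.add_apply, Finsupp.tsub_apply, Finsupp.sup_apply, hpow, ← hone, Finsupp.single_eq_same]
    by_cases hi : i.castSucc = one
    · have : 1 ≤ δ one := hA.elim (fun h => hi ▸ h) id
      simp [gv, e_apply, hi, Ne.symm hone0]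
      omega
    · simp [gv, e_apply, hi, Ne.symm hone0]
  case deg =>
    rintro (c | ε) j δ hc
    · change δ = _ at hc
      subst hc
      have h0 : (e (0 : Fin (n + 1)) + Finsupp.single (Fin.last n) (q - 1)) 0 = 1 := by simp [hlast0]
      refine ⟨(hS _).2 (Or.inr ⟨h0, fun x hx hxn => ?_⟩), by rw [deg_add, deg_single, deg_single]; simp [hpow, deg_single]; omega, Or.inl h0⟩
      have h3 : (0 : Fin (n+1)) ≠ x := fun hh => by rw [← hh] at hx; simp at hx
      have h4 : Fin.last n ≠ x := fun hh => by rw [← hh] at hxn; simp at hxn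
      simp [Finsupp.single_apply, h3, h4]
    · change δ = _ at hc
      subst hc
      obtain ⟨e0, ed, e1, em⟩ := hε.1 ε.2
      exact ⟨(hS _).2 (Or.inl ⟨e0, e1⟩), by simp [hpow, deg_single, ed], Or.inr em⟩
  case rel => intro t i j δ _; rw [Subsingleton.elim i j]
  case rep =>
    rintro (c | ε) (c' | ε')
    · simp [CB, repB]
    · refine iff_of_false (fun hh => ?_) (by simp)
      change ε'.1 = _ at hh
      have := congrArg (fun f : Fin (n+1) →₀ ℕ => f 0) hh
      obtain ⟨e0, -⟩ := hε.1 ε'.2
      simp [repB, e0, hlast0] at this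
    · refine iff_of_false (fun hh => ?_) (by simp)
      change _ = ε.1 at hh
      have := congrArg (fun f : Fin (n+1) →₀ ℕ => f 0) hh
      obtain ⟨e0, -⟩ := hε.1 ε.2
      simp [repB, e0, hlast0] at this
    · exact ⟨fun hh => congrArg Sum.inr (Subtype.ext (Eq.symm hh)), fun hh => by cases hh; rfl⟩
  case zero =>
    intro a ha hz j δ
    by_contra hne
    obtain ⟨hs, hd⟩ := ha.1 _ δ hne
    rw [show gen (hpow hn1 q) (.inr j) = Finsupp.single one q from rfl, deg_single] at hd
    rcases (hS δ).1 hs with ⟨h0, h1⟩ | ⟨h0, hm⟩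
    · by_cases hm : Mid δ
      · have he := eq_of_mid (by omega) hm
        rw [h0, Finsupp.single_zero, zero_add] at he
        have hl : δ (Fin.last n) = q := by rw [he, deg_single] at hd; exact hd
        let i1 : Fin n := ⟨1, hn1⟩
        have hi1 : i1.castSucc = one := rfl
        have hst : Std (gen (hpow hn1 q)) (e 0 + δ) := by
          refine (hS _).2 (Or.inr ⟨by simp [h0], fun x hx hxn => ?_⟩)
          have h3 : (0 : Fin (n+1)) ≠ x := fun hh => by rw [← hh] at hx; simp at hx
          simp [e_apply, h3, hm x hx hxn]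
        have hr := ha.2 (.inl i1) (.inr j) _ hst
        have hμ : gen (hpow hn1 q) (.inl i1) ⊔ gen (hpow hn1 q) (.inr j) - gen (hpow hn1 q) (.inr j) = e 0 := by
          ext x
          simp only [gen, Sum.elim_inl, Sum.elim_inr, gv, hpow, hi1, ← hone, Finsupp.tsub_apply, Finsupp.sup_apply,
            Finsupp.add_apply, e_apply, Finsupp.single_apply]
          by_cases hx0 : (0 : Fin (n+1)) = x <;> by_cases hxo : one = x <;> simp [hx0, hxo]
          · exact absurd (hxo.trans hx0.symm) hone0
          · omega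
        have hneg : ¬ gen (hpow hn1 q) (.inl i1) ⊔ gen (hpow hn1 q) (.inr j) - gen (hpow hn1 q) (.inl i1) ≤ e 0 + δ := by
          intro hle
          have := hle one
          simp [gen, gv, hpow, hi1, ← hone, e_apply, Ne.symm hone0, hm one le_rfl hn1] at this
          omega
        rw [hμ, sh, if_neg hneg, add_comm (e 0) δ, sh_add] at hr
        exact hne hr.symm
      · exact hne (hz (.inr ⟨δ, hε.2 ⟨h0, hd, h1, hm⟩⟩))
    · have he := eq_of_mid (by omega) hm
      have hl : δ (Fin.last n) = q - 1 := by rw [he, deg_add, deg_single, deg_single] at hd; omega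
      rw [he, h0, hl] at hne
      exact hne (hz (.inl ()))
  have hLs : Ls (hpow hn1 q) b (∅ : Finset (Fin n × (Fin (n + 1) →₀ ℕ))) = Finset.univ.erase 0 := by
    ext x
    simp only [Ls, Finset.mem_filter, Finset.mem_erase, Finset.mem_univ, true_and, and_true, Finset.notMem_empty,
      not_false_eq_true]
    refine ⟨fun h => h.1, fun hx => ⟨hx, ?_⟩⟩
    refine (hS _).2 (Or.inl ⟨by simp [e_apply, hx, hb0], ?_⟩)
    simp [e_apply, hb1]
    split_ifs <;> omega
  have hmem1 : Finsupp.single (1 : Fin (n + 1)) q ∈ ((Finset.univ : Finset (Fin (n + 1))).erase 0).finsuppAntidiag q :=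
    mem_degree.2 ⟨by rw [one_eq hn1, ← hone]; simp [hone0], deg_single _ _⟩
  have hmem2 : Finsupp.single (Fin.last n) q ∈ (((Finset.univ : Finset (Fin (n + 1))).erase 0).finsuppAntidiag q).erase
      (Finsupp.single (1 : Fin (n + 1)) q) :=
    Finset.mem_erase.2 ⟨fun hh => hlast1 (by rw [one_eq hn1, ← hone] at hh; exact Finsupp.single_left_injective (by omega) hh),
      mem_degree.2 ⟨by simp [hlast0], deg_single _ _⟩⟩
  rw [hLs, Finset.card_empty, Finset.card_erase_of_mem (Finset.mem_univ _), Finset.card_univ, Fintype.card_fin,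
    Fintype.card_sum, Fintype.card_unit, Fintype.card_coe, Finset.card_erase_of_mem hmem2,
    Finset.card_erase_of_mem hmem1, card_degree q (by omega)]
  have hpos := Finset.card_pos.2 ⟨_, hmem2⟩
  rw [Finset.card_erase_of_mem hmem1, card_degree q (by omega)] at hpos
  omega

end Pow

end Groth.Agent.HilbTwoBlock

namespace Groth.Agent.HilbTwoBlock

universe u
variable {n : ℕ} {k : Type u} [Field k]

theorem monomial_gv (i : Fin n) :
    (monomial (gv i) (1 : k) : MvPolynomial (Fin (n + 1)) k) = MvPolynomial.X 0 * MvPolynomial.X i.castSucc := by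
  simp only [MvPolynomial.X, monomial_mul, one_mul]; rfl

theorem first_block :
    (fun s => monomial s (1 : k)) '' Set.range (gv (n := n)) =
      {f | ∃ i : Fin (n + 1), i.val + 1 ≤ n ∧ f = MvPolynomial.X 0 * MvPolynomial.X i} := by
  ext f
  constructor
  · rintro ⟨_, ⟨i, rfl⟩, rfl⟩
    exact ⟨i.castSucc, by simp, monomial_gv i⟩
  · rintro ⟨i, hi, rfl⟩
    exact ⟨_, ⟨⟨i.val, hi⟩, rfl⟩, monomial_gv ⟨i.val, hi⟩⟩

theorem idl_hv {p q : ℕ} (hp : p < n) (hp1 : 0 < p) :
    idl k (gen (hv (n := n) hp q)) = Ideal.span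
      ({f : MvPolynomial (Fin (n + 1)) k | ∃ i : Fin (n + 1), i.val + 1 ≤ n ∧ f = MvPolynomial.X 0 * MvPolynomial.X i} ∪
        {f | ∃ i : Fin (n + 1), 1 ≤ i.val ∧ i.val ≤ p ∧ f = MvPolynomial.X 1 ^ q * MvPolynomial.X i}) := by
  have hm : ∀ j, (monomial (hv hp q j) (1 : k) : MvPolynomial (Fin (n + 1)) k) =
      MvPolynomial.X 1 ^ q * MvPolynomial.X (ix hp j) := fun j => by
    rw [MvPolynomial.X_pow_eq_monomial, MvPolynomial.X, monomial_mul, one_mul, one_eq (show 1 < n by omega)]; rfl
  rw [idl, gen, Sum.range_eq, Set.image_union]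
  simp only [Sum.elim_comp_inl, Sum.elim_comp_inr, first_block]
  congr 2
  ext f
  constructor
  · rintro ⟨_, ⟨j, rfl⟩, rfl⟩
    exact ⟨ix hp j, by simp [ix], by simp [ix] <;> omega, hm j⟩
  · rintro ⟨i, h1, h2, rfl⟩
    refine ⟨_, ⟨⟨i.val - 1, by omega⟩, rfl⟩, (hm _).trans ?_⟩
    congr 2
    exact Fin.ext (by simp [ix]; omega)

theorem idl_hpow {q : ℕ} (hn : 1 < n) :
    idl k (gen (hpow (n := n) hn q)) = Ideal.span
      ({f : MvPolynomial (Fin (n + 1)) k | ∃ i : Fin (n + 1), i.val + 1 ≤ n ∧ f = MvPolynomial.X 0 * MvPolynomial.X i} ∪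
        {MvPolynomial.X 1 ^ q}) := by
  rw [idl, gen, Sum.range_eq, Set.image_union]
  simp only [Sum.elim_comp_inl, Sum.elim_comp_inr, first_block]
  congr 2
  rw [MvPolynomial.X_pow_eq_monomial, one_eq hn]
  ext f
  simp [hpow, eq_comm]

end Groth.Agent.HilbTwoBlock
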