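import Groth.Prelude.Def_W4c1hilbpnTgt
import Mathlib

/-! Degree-zero homomorphisms out of a monomial ideal, as solutions of the pairwise lcm relations. -/

open MvPolynomial W4c1hilbpn
open scoped Classical

namespace Groth.Agent.HilbTwoBlock

universe u v w

variable {σ : Type v} [Fintype σ] {k : Type u} [Field k] {ι : Type w} [Fintype ι]
variable (gen : ι → σ →₀ ℕ)

variable (k) in
/-- the monomial ideal generated by `gen` -/
noncomputable def idl : Ideal (MvPolynomial σ k) :=
  Ideal.span ((fun s => monomial s (1 : k)) '' Set.range gen)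

/-- standard exponents -/
def Std (δ : σ →₀ ℕ) : Prop := ∀ i, ¬ gen i ≤ δ

/-- total degree of an exponent -/
def deg (δ : σ →₀ ℕ) : ℕ := ∑ x, δ x

/-- shift of a coefficient family -/
noncomputable def sh (b : (σ →₀ ℕ) → k) (μ δ : σ →₀ ℕ) : k := if μ ≤ δ then b (δ - μ) else 0

/-- the values on the generators of degree-zero homomorphisms -/
def Sol : Submodule k (ι → (σ →₀ ℕ) → k) where
  carrier := {a | (∀ i δ, a i δ ≠ 0 → Std gen δ ∧ deg δ = deg (gen i)) ∧
    ∀ i j δ, Std gen δ → sh (a i) (gen i ⊔ gen j - gen i) δ = sh (a j) (gen i ⊔ gen j - gen j) δ}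
  zero_mem' := ⟨fun i δ h => absurd rfl h, fun i j δ _ => by simp [sh]⟩
  add_mem' := fun {a b} ha hb => ⟨fun i δ h => by
    by_cases h' : a i δ = 0
    · exact hb.1 i δ (by simpa [h'] using h)
    · exact ha.1 i δ h', fun i j δ hδ => by
    have e : ∀ l μ, sh ((a + b) l) μ δ = sh (a l) μ δ + sh (b l) μ δ := fun l μ => by
      unfold sh; split_ifs <;> simp
    rw [e, e, ha.2 i j δ hδ, hb.2 i j δ hδ]⟩
  smul_mem' := fun c a ha => ⟨fun i δ h => ha.1 i δ (fun h' => h (by simp [h'])), fun i j δ hδ => by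
    have e : ∀ l μ, sh ((c • a) l) μ δ = c * sh (a l) μ δ := fun l μ => by
      unfold sh; split_ifs <;> simp
    rw [e, e, ha.2 i j δ hδ]⟩

variable {gen}

theorem mem_idl_iff {p : MvPolynomial σ k} :
    p ∈ idl k gen ↔ ∀ δ ∈ p.support, ¬ Std gen δ := by
  rw [idl, mem_ideal_span_monomial_image]
  simp [Std]

theorem monomial_mem_iff {δ : σ →₀ ℕ} : monomial δ (1 : k) ∈ idl k gen ↔ ¬ Std gen δ := by
  rw [mem_idl_iff, support_monomial, if_neg one_ne_zero]; simp

theorem mk_eq_iff {p q : MvPolynomial σ k} :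
    Ideal.Quotient.mk (idl k gen) p = Ideal.Quotient.mk (idl k gen) q ↔
      ∀ δ, Std gen δ → coeff δ p = coeff δ q := by
  rw [Ideal.Quotient.mk_eq_mk_iff_sub_mem, mem_idl_iff]
  constructor
  · intro h δ hδ
    by_contra hc
    exact h δ (mem_support_iff.2 (by rw [coeff_sub]; exact sub_ne_zero.2 hc)) hδ
  · intro h δ hδ hs
    rw [mem_support_iff, coeff_sub, h δ hs, sub_self] at hδ
    exact hδ rfl

variable (gen) in
/-- exponents in the degree of the `i`th generator -/
noncomputable def box (i : ι) : Finset (σ →₀ ℕ) := Finset.univ.finsuppAntidiag (deg (gen i))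

theorem mem_box {i : ι} {δ : σ →₀ ℕ} : δ ∈ box gen i ↔ deg δ = deg (gen i) := by
  simp [box, deg, Finsupp.sum_fintype]

variable (gen) in
/-- a coefficient family as a polynomial -/
noncomputable def poly (i : ι) : ((σ →₀ ℕ) → k) →ₗ[k] MvPolynomial σ k :=
  ∑ δ ∈ box gen i, (LinearMap.proj δ).smulRight (monomial δ (1 : k))

theorem coeff_poly {a : ι → (σ →₀ ℕ) → k} (ha : a ∈ Sol gen) (i : ι) (δ : σ →₀ ℕ) :
    coeff δ (poly gen i (a i)) = a i δ := by
  simp only [poly, LinearMap.sum_apply, LinearMap.smulRight_apply, LinearMap.proj_apply, coeff_sum, coeff_smul,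
    coeff_monomial, smul_eq_mul, mul_ite, mul_one, mul_zero, Finset.sum_ite_eq', ite_eq_left_iff]
  intro h
  by_contra hc
  exact h (mem_box.2 (ha.1 i δ (Ne.symm hc)).2)

variable (gen) in
/-- image of a monomial in the ideal -/
noncomputable def img (β : σ →₀ ℕ) : (ι → (σ →₀ ℕ) → k) →ₗ[k] MvPolynomial σ k ⧸ idl k gen :=
  if h : ∃ i, gen i ≤ β then
    ((Ideal.Quotient.mkₐ k (idl k gen)).toLinearMap.comp
      ((LinearMap.mulLeft k (monomial (β - gen h.choose) (1 : k))).comp
        ((poly gen h.choose).comp (LinearMap.proj h.choose))))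
  else 0

theorem img_eq {a : ι → (σ →₀ ℕ) → k} (ha : a ∈ Sol gen) {β : σ →₀ ℕ} {i : ι} (hi : gen i ≤ β) :
    img gen β a = Ideal.Quotient.mk _ (monomial (β - gen i) 1 * poly gen i (a i)) := by
  have h : ∃ j, gen j ≤ β := ⟨i, hi⟩
  rw [img, dif_pos h]
  set j := h.choose
  have hj : gen j ≤ β := h.choose_spec
  simp only [LinearMap.comp_apply, LinearMap.proj_apply, LinearMap.mulLeft_apply, AlgHom.toLinearMap_apply,
    Ideal.Quotient.mkₐ_eq_mk]
  have hL : gen j ⊔ gen i ≤ β := sup_le hj hi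
  have e : ∀ l : ι, gen l ≤ gen j ⊔ gen i → (monomial (β - gen l) 1 : MvPolynomial σ k) =
      monomial (β - (gen j ⊔ gen i)) 1 * monomial (gen j ⊔ gen i - gen l) 1 := fun l hl => by
    rw [monomial_mul, one_mul, show β - (gen j ⊔ gen i) + (gen j ⊔ gen i - gen l) = β - gen l by
      ext x
      have := hL x; have := hl x
      simp only [Finsupp.tsub_apply, Finsupp.add_apply] at *
      omega]
  rw [e j le_sup_left, e i le_sup_right, mul_assoc, mul_assoc, map_mul, map_mul (Ideal.Quotient.mk _)]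
  refine congrArg (Ideal.Quotient.mk (idl k gen) (monomial (β - (gen j ⊔ gen i)) 1) * ·) (mk_eq_iff.2 ?_)
  intro δ hδ
  rw [coeff_monomial_mul', coeff_monomial_mul', coeff_poly ha, coeff_poly ha, one_mul, one_mul]
  exact ha.2 j i δ hδ

variable (gen) in
/-- the extension to all polynomials -/
noncomputable def ext₀ (a : ι → (σ →₀ ℕ) → k) : MvPolynomial σ k →ₗ[k] MvPolynomial σ k ⧸ idl k gen :=
  (basisMonomials σ k).constr k fun β => img gen β a

theorem ext₀_monomial (a : ι → (σ →₀ ℕ) → k) (β : σ →₀ ℕ) (c : k) :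
    ext₀ gen a (monomial β c) = c • img gen β a := by
  have h1 : ext₀ gen a (monomial β (1 : k)) = img gen β a := by
    have := (basisMonomials σ k).constr_basis k (fun β => img gen β a) β
    rwa [show basisMonomials σ k β = monomial β (1 : k) by simp] at this
  rw [show monomial β c = c • monomial β (1 : k) by simp [smul_monomial], map_smul, h1]

theorem ext₀_mul {a : ι → (σ →₀ ℕ) → k} (ha : a ∈ Sol gen) (q : MvPolynomial σ k) {p : MvPolynomial σ k}
    (hp : p ∈ idl k gen) : ext₀ gen a (q * p) = q • ext₀ gen a p := by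
  rw [p.as_sum, Finset.mul_sum, map_sum, map_sum, Finset.smul_sum]
  refine Finset.sum_congr rfl fun β hβ => ?_
  obtain ⟨i, hi⟩ : ∃ i, gen i ≤ β := by simpa [Std] using mem_idl_iff.1 hp β hβ
  induction q using MvPolynomial.induction_on' with
  | monomial μ c =>
    rw [monomial_mul, ext₀_monomial, ext₀_monomial, img_eq ha hi, img_eq ha (hi.trans le_add_self),
      smul_comm (monomial μ c), mul_comm c, mul_smul]
    congr 1
    rw [show ∀ x y : MvPolynomial σ k, x • Ideal.Quotient.mk (idl k gen) y = Ideal.Quotient.mk _ (x * y) from fun _ _ => rfl,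
      ← mul_assoc, monomial_mul, mul_one, add_tsub_assoc_of_le hi,
      show monomial (μ + (β - gen i)) c = c • monomial (μ + (β - gen i)) (1 : k) by simp [smul_monomial],
      smul_mul_assoc]
    exact (map_smul (Ideal.Quotient.mkₐ k (idl k gen)) _ _).symm
  | add q₁ q₂ h1 h2 => rw [add_mul, map_add, h1, h2, add_smul]

variable (gen) in
/-- the homomorphism attached to a solution -/
noncomputable def ofSol : ↥(Sol (k := k) gen) →ₗ[k] Tgt (idl k gen) where
  toFun a :=
    { toFun := fun p => ext₀ gen a.1 p.1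
      map_add' := fun p q => by simp
      map_smul' := fun q p => ext₀_mul a.2 q p.2 }
  map_add' a b := by
    ext p
    show ext₀ gen (a.1 + b.1) p.1 = _
    simp [ext₀, Module.Basis.constr_apply, Finsupp.sum, smul_add, Finset.sum_add_distrib]
  map_smul' c a := by
    ext p
    show ext₀ gen (c • a.1) p.1 = _
    simp [ext₀, Module.Basis.constr_apply, Finsupp.sum, Finset.smul_sum, smul_comm c]

theorem gen_mem (i : ι) : monomial (gen i) (1 : k) ∈ idl k gen :=
  Ideal.subset_span ⟨gen i, ⟨i, rfl⟩, rfl⟩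

theorem ofSol_gen (a : ↥(Sol (k := k) gen)) (i : ι) :
    ofSol gen a ⟨monomial (gen i) 1, gen_mem i⟩ = Ideal.Quotient.mk _ (poly gen i (a.1 i)) := by
  show ext₀ gen a.1 _ = _
  rw [ext₀_monomial, one_smul, img_eq a.2 (le_refl _), tsub_self]
  simp

theorem ofSol_injective : Function.Injective (ofSol (k := k) gen) := fun a b h => by
  refine Subtype.ext (funext fun i => funext fun δ => ?_)
  have h1 := LinearMap.congr_fun h ⟨monomial (gen i) 1, gen_mem i⟩
  rw [ofSol_gen, ofSol_gen, mk_eq_iff] at h1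
  by_cases hs : Std gen δ
  · simpa [coeff_poly a.2, coeff_poly b.2] using h1 δ hs
  · have hz : ∀ c : ↥(Sol (k := k) gen), c.1 i δ = 0 := fun c => by
      by_contra hc; exact hs (c.2.1 i δ hc).1
    rw [hz, hz]

theorem hom_ext {φ ψ : Tgt (idl k gen)}
    (h : ∀ i, φ ⟨monomial (gen i) 1, gen_mem i⟩ = ψ ⟨monomial (gen i) 1, gen_mem i⟩) : φ = ψ := by
  refine LinearMap.ext fun p => ?_
  obtain ⟨p, hp⟩ := p
  induction hp using Submodule.span_induction with
  | mem x hx => obtain ⟨_, ⟨i, rfl⟩, rfl⟩ := hx; exact h i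
  | zero => exact φ.map_zero.trans ψ.map_zero.symm
  | add x y hx hy h1 h2 =>
    exact (φ.map_add ⟨x, hx⟩ ⟨y, hy⟩).trans ((congrArg₂ (· + ·) h1 h2).trans (ψ.map_add ⟨x, hx⟩ ⟨y, hy⟩).symm)
  | smul c x hx h1 =>
    exact (φ.map_smul c ⟨x, hx⟩).trans ((congrArg (c • ·) h1).trans (ψ.map_smul c ⟨x, hx⟩).symm)

/-- multidegree of a value -/
def mdeg (g δ : σ →₀ ℕ) : σ → ℤ := fun x => (δ x : ℤ) - g x

variable (gen) in
/-- one multidegree of a family -/
noncomputable def part (α : σ → ℤ) (a : ι → (σ →₀ ℕ) → k) : ι → (σ →₀ ℕ) → k :=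
  fun i δ => if mdeg (gen i) δ = α then a i δ else 0

theorem part_mem {a : ι → (σ →₀ ℕ) → k} (ha : a ∈ Sol gen) (α : σ → ℤ) : part gen α a ∈ Sol gen := by
  refine ⟨fun i δ h => ha.1 i δ fun h' => h (by simp [part, h']), fun i j δ hδ => ?_⟩
  have key : ∀ l : ι, gen l ≤ gen i ⊔ gen j →
      sh (part gen α a l) (gen i ⊔ gen j - gen l) δ =
        if mdeg (gen i ⊔ gen j) δ = α then sh (a l) (gen i ⊔ gen j - gen l) δ else 0 := fun l hl => by
    by_cases hμ : gen i ⊔ gen j - gen l ≤ δ
    · have e : mdeg (gen l) (δ - (gen i ⊔ gen j - gen l)) = mdeg (gen i ⊔ gen j) δ := by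
        funext x
        have := hμ x; have := hl x
        simp only [mdeg, Finsupp.tsub_apply] at *
        omega
      simp [sh, part, hμ, e]
    · simp [sh, hμ]
  rw [key i le_sup_left, key j le_sup_right, ha.2 i j δ hδ]

theorem ofSol_part_mem {a : ι → (σ →₀ ℕ) → k} (ha : a ∈ Sol gen) (α : σ → ℤ) :
    ofSol gen ⟨part gen α a, part_mem ha α⟩ ∈ tPiece (idl k gen) α := by
  intro β hβ
  obtain ⟨i, hi⟩ : ∃ i, gen i ≤ β := by simpa [Std] using monomial_mem_iff.1 hβ
  show (_ → ext₀ gen _ _ ∈ _) ∧ (_ → ext₀ gen _ _ = 0)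
  rw [ext₀_monomial, one_smul, img_eq (part_mem ha α) hi, map_mul]
  have hterm : ∀ δ, part gen α a i δ ≠ 0 → (∀ x, 0 ≤ (β x : ℤ) + α x) ∧ β - gen i + δ = shift β α := by
    intro δ hδ
    have hm : mdeg (gen i) δ = α := by by_contra hc; exact hδ (by simp [part, hc])
    refine ⟨fun x => ?_, ?_⟩
    · have := congrFun hm x; have := hi x; simp only [mdeg] at *; omega
    · ext x
      have := congrFun hm x; have := hi x
      simp only [mdeg, shift, Finsupp.add_apply, Finsupp.tsub_apply, Finsupp.coe_equivFunOnFinite_symm] at *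
      omega
  have hpoly : poly gen i (part gen α a i) = ∑ δ ∈ box gen i, part gen α a i δ • monomial δ (1 : k) := by
    simp [poly]
  rw [hpoly, map_sum, Finset.mul_sum]
  have hone : ∀ δ, Ideal.Quotient.mk (idl k gen) (monomial (β - gen i) 1) *
      Ideal.Quotient.mk (idl k gen) (part gen α a i δ • monomial δ (1 : k)) =
      part gen α a i δ • Ideal.Quotient.mk (idl k gen) (monomial (β - gen i + δ) (1 : k)) := fun δ => by
    rw [← map_mul, mul_smul_comm, monomial_mul, one_mul]
    exact map_smul (Ideal.Quotient.mkₐ k (idl k gen)) _ _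
  simp only [hone]
  constructor
  · intro _
    refine Submodule.sum_mem _ fun δ _ => ?_
    by_cases hz : part gen α a i δ = 0
    · simp [hz]
    · rw [(hterm δ hz).2]
      exact Submodule.smul_mem _ _ (Submodule.mem_span_singleton_self _)
  · rintro ⟨x, hx⟩
    refine Finset.sum_eq_zero fun δ _ => ?_
    by_cases hz : part gen α a i δ = 0
    · simp [hz]
    · exact absurd ((hterm δ hz).1 x) (not_le.2 hx)

theorem exists_sol {α : σ → ℤ} (hα : ∑ x, α x = 0) {φ : Tgt (idl k gen)} (hφ : φ ∈ tPiece (idl k gen) α) :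
    ∃ a, ofSol gen a = φ := by
  have hval : ∀ i, ∃ r : k, ∀ δ, δ = shift (gen i) α → (∀ x, 0 ≤ (gen i x : ℤ) + α x) →
      φ ⟨monomial (gen i) 1, gen_mem i⟩ = r • Ideal.Quotient.mk _ (monomial δ (1 : k)) := fun i => by
    by_cases h : ∀ x, 0 ≤ (gen i x : ℤ) + α x
    · obtain ⟨r, hr⟩ := Submodule.mem_span_singleton.1 ((hφ (gen i) (gen_mem i)).1 h)
      exact ⟨r, fun δ hδ _ => hδ ▸ hr.symm⟩
    · exact ⟨0, fun δ _ h' => absurd h' h⟩
  choose r hr using hval
  let a : ι → (σ →₀ ℕ) → k := fun i δ =>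
    if δ = shift (gen i) α ∧ (∀ x, 0 ≤ (gen i x : ℤ) + α x) ∧ Std gen δ then r i else 0
  let P : ι → MvPolynomial σ k := fun i =>
    if ∀ x, 0 ≤ (gen i x : ℤ) + α x then r i • monomial (shift (gen i) α) 1 else 0
  have hmkP : ∀ i, φ ⟨monomial (gen i) 1, gen_mem i⟩ = Ideal.Quotient.mk _ (P i) := fun i => by
    by_cases h : ∀ x, 0 ≤ (gen i x : ℤ) + α x
    · simp only [P, if_pos h]
      exact (hr i _ rfl h).trans (map_smul (Ideal.Quotient.mkₐ k (idl k gen)) _ _).symm
    · simp only [P, if_neg h, map_zero]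
      push Not at h
      exact (hφ (gen i) (gen_mem i)).2 h
  have haP : ∀ i δ, a i δ = if Std gen δ then coeff δ (P i) else 0 := fun i δ => by
    by_cases h : ∀ x, 0 ≤ (gen i x : ℤ) + α x
    · simp only [a, P, if_pos h, coeff_smul, coeff_monomial, smul_eq_mul]
      by_cases e : shift (gen i) α = δ
      · subst e; simp [h]
      · simp [e, Ne.symm e]
    · simp [a, P, h]
  have hsh : ∀ (l : ι) (μ δ : σ →₀ ℕ), Std gen δ → sh (a l) μ δ = coeff δ (monomial μ 1 * P l) := by
    intro l μ δ hδ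
    rw [coeff_monomial_mul', sh]
    split_ifs with h
    · have hs : Std gen (δ - μ) := fun i hi => hδ i (hi.trans tsub_le_self)
      rw [haP, if_pos hs, one_mul]
    · rfl
  have ha : a ∈ Sol gen := by
    refine ⟨fun i δ h => ?_, fun i j δ hδ => ?_⟩
    · have h' : δ = shift (gen i) α ∧ (∀ x, 0 ≤ (gen i x : ℤ) + α x) ∧ Std gen δ := by
        by_contra hc; exact h (if_neg hc)
      refine ⟨h'.2.2, ?_⟩
      have : (deg δ : ℤ) = deg (gen i) := by
        simp only [deg, Nat.cast_sum]
        rw [h'.1, ← add_zero (∑ x, ((gen i x : ℕ) : ℤ)), ← hα, ← Finset.sum_add_distrib]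
        refine Finset.sum_congr rfl fun x _ => ?_
        have := h'.2.1 x
        simp only [shift, Finsupp.coe_equivFunOnFinite_symm]
        omega
      exact_mod_cast this
    · rw [hsh i _ δ hδ, hsh j _ δ hδ]
      have key : ∀ l : ι, gen l ≤ gen i ⊔ gen j →
          Ideal.Quotient.mk (idl k gen) (monomial (gen i ⊔ gen j - gen l) 1 * P l) =
            φ ⟨monomial (gen i ⊔ gen j) 1, monomial_mem_iff.2 fun h => h i le_sup_left⟩ := fun l hl => by
        rw [map_mul, ← hmkP l, ← Ideal.Quotient.algebraMap_eq, ← Algebra.smul_def, ← map_smul]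
        congr 1
        refine Subtype.ext ?_
        simp only [SetLike.val_smul, smul_eq_mul, monomial_mul, mul_one]
        rw [tsub_add_cancel_of_le hl]
      exact mk_eq_iff.1 ((key i le_sup_left).trans (key j le_sup_right).symm) δ hδ
  refine ⟨⟨a, ha⟩, hom_ext fun i => ?_⟩
  rw [ofSol_gen, hmkP i, mk_eq_iff]
  intro δ hδ
  rw [coeff_poly ha, haP, if_pos hδ]

/-- The degree-zero homomorphisms are the solutions of the lcm relations. -/
theorem finrank_hom0 :
    Module.finrank k ↥(⨆ α : {α : σ → ℤ // ∑ x, α x = 0}, tPiece (idl k gen) α.1) =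
      Module.finrank k ↥(Sol (k := k) gen) := by
  have hrange : (⨆ α : {α : σ → ℤ // ∑ x, α x = 0}, tPiece (idl k gen) α.1) =
      LinearMap.range (ofSol (k := k) gen) := by
    refine le_antisymm (iSup_le fun α φ hφ => ?_) ?_
    · exact exists_sol α.2 hφ
    · rintro _ ⟨a, rfl⟩
      set A : Finset (σ → ℤ) := (Finset.univ : Finset ι).biUnion fun i => (box gen i).image (mdeg (gen i))
      have hsum : a = ∑ α ∈ A, (⟨part gen α a.1, part_mem a.2 α⟩ : ↥(Sol (k := k) gen)) := by
        refine Subtype.ext (funext fun i => funext fun δ => ?_)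
        rw [AddSubmonoidClass.coe_finsetSum, Finset.sum_apply, Finset.sum_apply]
        simp only [part, Finset.sum_ite_eq]
        split_ifs with h
        · rfl
        · by_contra hc
          exact h (Finset.mem_biUnion.2 ⟨i, Finset.mem_univ _,
            Finset.mem_image_of_mem _ (mem_box.2 (a.2.1 i δ hc).2)⟩)
      rw [hsum, map_sum]
      refine Submodule.sum_mem _ fun α hα => ?_
      have h0 : ∑ x, α x = 0 := by
        obtain ⟨i, -, h⟩ := Finset.mem_biUnion.1 hα
        obtain ⟨δ, hδ, rfl⟩ := Finset.mem_image.1 h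
        have e := mem_box.1 hδ
        simp only [deg] at e
        simp only [mdeg, Finset.sum_sub_distrib]
        rw [sub_eq_zero]
        exact_mod_cast e
      exact Submodule.mem_iSup_of_mem (⟨α, h0⟩ : {α : σ → ℤ // ∑ x, α x = 0}) (ofSol_part_mem a.2 α)
  rw [hrange, LinearMap.finrank_range_of_inj ofSol_injective]

/-- counting solutions through free coordinates -/
theorem finrank_sol {T : Type*} [Fintype T] (rep : T → ι × (σ →₀ ℕ))
    (e : (T → k) → (ι → (σ →₀ ℕ) → k)) (he : ∀ v, e v ∈ Sol gen)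
    (hrep : ∀ v t, e v (rep t).1 (rep t).2 = v t)
    (hzero : ∀ a ∈ Sol (k := k) gen, (∀ t, a (rep t).1 (rep t).2 = 0) → a = 0) :
    Module.finrank k ↥(Sol (k := k) gen) = Fintype.card T := by
  let R : ↥(Sol (k := k) gen) →ₗ[k] (T → k) :=
    { toFun := fun a t => a.1 (rep t).1 (rep t).2
      map_add' := fun a b => rfl
      map_smul' := fun c a => rfl }
  have hbij : Function.Bijective R :=
    ⟨(injective_iff_map_eq_zero R).2 fun a ha => Subtype.ext (hzero a.1 a.2 fun t => congrFun ha t),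
      fun v => ⟨⟨e v, he v⟩, funext fun t => hrep v t⟩⟩
  rw [(LinearEquiv.ofBijective R hbij).finrank_eq, Module.finrank_fintype_fun_eq_card]

end Groth.Agent.HilbTwoBlock
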