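import Groth.Agent.HilbTwoBlock.Count

/-! Degree-zero homomorphisms for a transversal pair of coordinate planes. -/

open MvPolynomial W4c1hilbpn
open scoped Classical

namespace Groth.Agent.HilbTwoBlock

universe u
variable {n c d : ℕ} {k : Type u} [Field k]

/-- index of the first group -/
def ixA (hcn : c ≤ n) (i : Fin c) : Fin (n + 1) := ⟨i.val, by omega⟩
/-- index of the second group -/
def ixB (hdn : d ≤ n) (j : Fin d) : Fin (n + 1) := ⟨n + 1 - d + j.val, by omega⟩

/-- generators of the pair of planes -/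
noncomputable def planeGen (hcn : c ≤ n) (hdn : d ≤ n) : Fin c × Fin d → Fin (n + 1) →₀ ℕ :=
  fun x => e (ixA hcn x.1) + e (ixB hdn x.2)

theorem finrank_planes (hc : 2 ≤ c) (hcd : c ≤ d) (hn : c + d ≤ n) :
    Module.finrank k ↥(Sol (k := k) (planeGen (show c ≤ n by omega) (show d ≤ n by omega))) =
      c * (n - c + 1) + d * (n - d + 1) := by
  have hcn : c ≤ n := by omega
  have hdn : d ≤ n := by omega
  set G := planeGen (show c ≤ n by omega) (show d ≤ n by omega) with hG
  let A := fun i => ixA hcn i
  let B := fun j => ixB hdn j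
  have hA : ∀ i i', A i = A i' → i = i' := fun i i' h => Fin.ext (by simpa [A, ixA] using congrArg Fin.val h)
  have hB : ∀ j j', B j = B j' → j = j' := fun i i' h => Fin.ext (by simpa [B, ixB] using congrArg Fin.val h)
  have hAB : ∀ i j, A i ≠ B j := fun i j h => by
    have := congrArg Fin.val h; simp [A, B, ixA, ixB] at this; omega
  have hle : ∀ x δ, G x ≤ δ ↔ 1 ≤ δ (A x.1) ∧ 1 ≤ δ (B x.2) := by
    intro x δ
    constructor
    · intro h
      have h0 := h (A x.1); have h1 := h (B x.2)
      simp [hG, planeGen, e_apply, A, B] at h0 h1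
      simp [A, B]
      omega
    · rintro ⟨h0, h1⟩ y
      simp only [hG, planeGen, Finsupp.add_apply, e_apply]
      split_ifs with a b b
      · exact absurd (a.trans b.symm) (hAB _ _)
      · subst a; simpa using h0
      · subst b; simpa using h1
      · simp
  have hStd : ∀ δ, Std G δ ↔ (∀ i, δ (A i) = 0) ∨ (∀ j, δ (B j) = 0) := by
    intro δ
    constructor
    · intro h
      by_contra hcon
      push Not at hcon
      obtain ⟨⟨i, hi⟩, ⟨j, hj⟩⟩ := hcon
      exact h (i, j) ((hle _ _).2 ⟨Nat.pos_of_ne_zero hi, Nat.pos_of_ne_zero hj⟩)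
    · rintro h x hx
      obtain ⟨h0, h1⟩ := (hle _ _).1 hx
      rcases h with h | h
      · have := h x.1; omega
      · have := h x.2; omega
  -- free coordinates
  let yA : Fin (n - c + 1) → Fin (n + 1) := fun t => ⟨c + t.val, by omega⟩
  let yB : Fin (n - d + 1) → Fin (n + 1) := fun t => ⟨t.val, by omega⟩
  have hyA : ∀ t i, yA t ≠ A i := fun t i h => by
    have := congrArg Fin.val h; simp [yA, A, ixA] at this; omega
  have hyB : ∀ t j, yB t ≠ B j := fun t j h => by
    have := congrArg Fin.val h; simp [yB, B, ixB] at this; omega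
  let Cl : (Fin c × Fin (n - c + 1)) ⊕ (Fin d × Fin (n - d + 1)) → Fin c × Fin d → (Fin (n + 1) →₀ ℕ) → Prop :=
    fun t x δ => match t with
    | .inl (i, y) => x.1 = i ∧ δ = e (B x.2) + e (yA y)
    | .inr (j, y) => x.2 = j ∧ δ = e (A x.1) + e (yB y)
  let i0 : Fin c := ⟨0, by omega⟩
  let j0 : Fin d := ⟨0, by omega⟩
  let rep : (Fin c × Fin (n - c + 1)) ⊕ (Fin d × Fin (n - d + 1)) → (Fin c × Fin d) × (Fin (n + 1) →₀ ℕ) :=
    fun t => match t with
    | .inl (i, y) => ((i, j0), e (B j0) + e (yA y))
    | .inr (j, y) => ((i0, j), e (A i0) + e (yB y))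
  have sameA : ∀ i j j', j ≠ j' → G (i, j) ⊔ G (i, j') - G (i, j) = e (B j') := by
    intro i j j' h
    ext y
    have h1 : B j ≠ B j' := fun hh => h (hB _ _ hh)
    simp only [hG, planeGen, Finsupp.tsub_apply, Finsupp.sup_apply, Finsupp.add_apply, e_apply]
    by_cases a : A i = y <;> by_cases b : B j = y <;> by_cases b' : B j' = y <;>
      simp [A, B] at a b b' ⊢ <;> simp [a, b, b'] <;> exact absurd (b.trans b'.symm) h1
  have sameB : ∀ i i' j, i ≠ i' → G (i, j) ⊔ G (i', j) - G (i, j) = e (A i') := by
    intro i i' j h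
    ext y
    have h1 : A i ≠ A i' := fun hh => h (hA _ _ hh)
    simp only [hG, planeGen, Finsupp.tsub_apply, Finsupp.sup_apply, Finsupp.add_apply, e_apply]
    by_cases a : A i = y <;> by_cases a' : A i' = y <;> by_cases b : B j = y <;>
      simp [A, B] at a a' b ⊢ <;> simp [a, a', b] <;> exact absurd (a.trans a'.symm) h1
  have hrel : ∀ t x x' δ, Std G δ → (G x ⊔ G x' - G x ≤ δ ∧ Cl t x (δ - (G x ⊔ G x' - G x))) →
      (G x ⊔ G x' - G x' ≤ δ ∧ Cl t x' (δ - (G x ⊔ G x' - G x'))) := by
    rintro t ⟨i, j⟩ ⟨i', j'⟩ δ hδ ⟨hl, hc⟩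
    have hδ' := (tsub_add_cancel_of_le hl).symm
    rcases t with ⟨i₁, y⟩ | ⟨j₁, y⟩
    · obtain ⟨hi, hd⟩ := hc
      change i = i₁ at hi
      change δ - _ = e (B j) + e (yA y) at hd
      rw [hd] at hδ'
      by_cases hii : i' = i
      · subst hii
        by_cases hjj : j = j'
        · subst hjj; exact ⟨hl, hi, hd⟩
        · rw [sameA i' j j' hjj] at hδ'
          rw [show G (i', j) ⊔ G (i', j') - G (i', j') = e (B j) by rw [sup_comm]; exact sameA i' j' j (Ne.symm hjj)]
          have e1 : e (B j) + e (yA y) + e (B j') = e (B j') + e (yA y) + e (B j) := by abel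
          refine ⟨Finsupp.single_le_iff.2 (by rw [hδ', e1]; simp), hi, ?_⟩
          rw [hδ', e1, add_tsub_cancel_right]
      · exfalso
        rcases (hStd δ).1 hδ with h | h
        · have := h i'
          rw [hδ'] at this
          simp [hG, planeGen, e_apply, A, B] at this
          have h1 : ixA hcn i ≠ ixA hcn i' := fun hh => hii (hA _ _ hh).symm
          have h2 : ixB hdn j ≠ ixA hcn i' := (hAB i' j).symm
          have h3 : ixB hdn j' ≠ ixA hcn i' := (hAB i' j').symm
          simp [h1, h2, h3] at this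
        · have := h j
          rw [hδ'] at this
          simp at this
    · obtain ⟨hj, hd⟩ := hc
      change j = j₁ at hj
      change δ - _ = e (A i) + e (yB y) at hd
      rw [hd] at hδ'
      by_cases hjj : j' = j
      · subst hjj
        by_cases hii : i = i'
        · subst hii; exact ⟨hl, hj, hd⟩
        · rw [sameB i i' j' hii] at hδ'
          rw [show G (i, j') ⊔ G (i', j') - G (i', j') = e (A i) by rw [sup_comm]; exact sameB i' i j' (Ne.symm hii)]
          have e1 : e (A i) + e (yB y) + e (A i') = e (A i') + e (yB y) + e (A i) := by abel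
          refine ⟨Finsupp.single_le_iff.2 (by rw [hδ', e1]; simp), hj, ?_⟩
          rw [hδ', e1, add_tsub_cancel_right]
      · exfalso
        rcases (hStd δ).1 hδ with h | h
        · have := h i
          rw [hδ'] at this
          simp at this
        · have := h j'
          rw [hδ'] at this
          simp [hG, planeGen, e_apply, A, B] at this
          have h1 : ixB hdn j ≠ ixB hdn j' := fun hh => hjj (hB _ _ hh).symm
          have h2 : ixA hcn i ≠ ixB hdn j' := hAB i j'
          have h3 : ixA hcn i' ≠ ixB hdn j' := hAB i' j'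
          simp [h1, h2, h3] at this
  have hdeg : ∀ t x δ, Cl t x δ → Std G δ ∧ deg δ = deg (G x) := by
    rintro (⟨i, y⟩ | ⟨j, y⟩) x δ ⟨-, rfl⟩
    · refine ⟨(hStd _).2 (Or.inl fun i' => ?_), by simp [hG, planeGen, deg_add, deg_single]⟩
      simp [e_apply, hyA, (hAB i' x.2).symm]
    · refine ⟨(hStd _).2 (Or.inr fun j' => ?_), by simp [hG, planeGen, deg_add, deg_single]⟩
      simp [e_apply, hyB, hAB x.1 j']
  let ind : (Fin c × Fin (n - c + 1)) ⊕ (Fin d × Fin (n - d + 1)) → Fin c × Fin d → (Fin (n + 1) →₀ ℕ) → k :=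
    fun t x δ => if Cl t x δ then 1 else 0
  have hind : ∀ t, ind t ∈ Sol (k := k) G := fun t => ⟨fun l δ hne => hdeg t l δ (by
      by_contra hc; exact hne (if_neg hc)), fun l l' δ hδ => by
    simp only [sh, ind, ← ite_and]
    exact if_congr ⟨hrel t l l' δ hδ, fun h => by rw [sup_comm] at h ⊢; exact hrel t l' l δ hδ h⟩ rfl rfl⟩
  rw [finrank_sol (k := k) rep (fun v => ∑ t, v t • ind t)
    (fun v => Submodule.sum_mem _ fun t _ => Submodule.smul_mem _ _ (hind t)) ?_ ?_]
  · simp only [Fintype.card_sum, Fintype.card_prod, Fintype.card_fin]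
  · intro v t
    have hiff : ∀ t', Cl t' (rep t).1 (rep t).2 ↔ t' = t := by
      intro t'
      refine ⟨fun h => ?_, fun h => ?_⟩
      · rcases t with ⟨i, y⟩ | ⟨j, y⟩ <;> rcases t' with ⟨i', y'⟩ | ⟨j', y'⟩
        · obtain ⟨h1, h2⟩ := h
          have := Finsupp.single_left_injective one_ne_zero (add_left_cancel h2)
          rw [show i = i' from h1, show y = y' from Fin.ext (by simpa [yA] using congrArg Fin.val this)]
        · obtain ⟨-, h2⟩ := h
          have := congrArg (fun f : Fin (n + 1) →₀ ℕ => f (A i)) h2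
          simp [rep, e_apply, hyA, (hAB i j0).symm] at this; omega
        · obtain ⟨-, h2⟩ := h
          have := congrArg (fun f : Fin (n + 1) →₀ ℕ => f (B j)) h2
          simp [rep, e_apply, hyB, hAB i0 j] at this; omega
        · obtain ⟨h1, h2⟩ := h
          have := Finsupp.single_left_injective one_ne_zero (add_left_cancel h2)
          rw [show j = j' from h1, show y = y' from Fin.ext (by simpa [yB] using congrArg Fin.val this)]
      · subst h
        rcases t' with ⟨i, y⟩ | ⟨j, y⟩ <;> exact ⟨rfl, rfl⟩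
    simp only [Finset.sum_apply, Pi.smul_apply, ind, smul_eq_mul, mul_ite, mul_one, mul_zero, hiff,
      Finset.sum_ite_eq', Finset.mem_univ, if_true]
  · intro a ha hz
    funext x δ
    obtain ⟨i, j⟩ := x
    by_contra hne
    obtain ⟨hs, hd⟩ := ha.1 _ δ hne
    rw [show deg (G (i, j)) = 2 by simp [hG, planeGen, deg_add, deg_single]] at hd
    have vA : ∀ j', j' ≠ j → (∀ i, δ (A i) = 0) →
        a (i, j) δ = if 1 ≤ δ (B j) then a (i, j') (δ + e (B j') - e (B j)) else 0 := by
      intro j' hj hz0
      have hs' : Std G (δ + e (B j')) := (hStd _).2 (Or.inl fun i' => by simp [e_apply, hz0, (hAB i' j').symm])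
      have hr := ha.2 (i, j) (i, j') _ hs'
      rw [sameA i j j' (Ne.symm hj), show G (i, j) ⊔ G (i, j') - G (i, j') = e (B j) by
        rw [sup_comm]; exact sameA i j' j hj, sh_add] at hr
      rw [hr, sh]
      have : B j' ≠ B j := fun hh => hj (hB _ _ hh)
      exact if_congr (by rw [Finsupp.single_le_iff, Finsupp.add_apply, e_apply, if_neg this, add_zero]) rfl rfl
    have vB : ∀ i', i' ≠ i → (∀ j, δ (B j) = 0) →
        a (i, j) δ = if 1 ≤ δ (A i) then a (i', j) (δ + e (A i') - e (A i)) else 0 := by
      intro i' hi hz0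
      have hs' : Std G (δ + e (A i')) := (hStd _).2 (Or.inr fun j' => by simp [e_apply, hz0, hAB i' j'])
      have hr := ha.2 (i, j) (i', j) _ hs'
      rw [sameB i i' j (Ne.symm hi), show G (i, j) ⊔ G (i', j) - G (i', j) = e (A i) by
        rw [sup_comm]; exact sameB i' i j hi, sh_add] at hr
      rw [hr, sh]
      have : A i' ≠ A i := fun hh => hi (hA _ _ hh)
      exact if_congr (by rw [Finsupp.single_le_iff, Finsupp.add_apply, e_apply, if_neg this, add_zero]) rfl rfl
    rcases (hStd δ).1 hs with h | h
    · by_cases hj : 1 ≤ δ (B j)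
      · obtain ⟨y, hy⟩ := eq_pair hj hd
        have hyc : c ≤ y.val := by
          by_contra hh
          have := h ⟨y.val, by omega⟩
          rw [show A ⟨y.val, by omega⟩ = y from rfl, hy] at this
          simp at this
        have hrep := hz (.inl (i, ⟨y.val - c, by omega⟩))
        simp only [rep, yA, show c + (y.val - c) = y.val by omega, Fin.eta] at hrep
        by_cases hj0 : j = j0
        · subst hj0; rw [hy] at hne; exact hne hrep
        · have := vA j0 (Ne.symm hj0) h
          rw [if_pos hj, hy, show Finsupp.single (B j) 1 + Finsupp.single y 1 + e (B j0) - e (B j) = e (B j0) + e y by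
            rw [show Finsupp.single (B j) 1 + Finsupp.single y 1 + e (B j0) = e (B j0) + e y + e (B j) by
              simp only [e]; abel, add_tsub_cancel_right], hrep] at this
          rw [hy] at hne; exact hne this
      · obtain ⟨j', hj'⟩ : ∃ j', j' ≠ j := by
          haveI : Nontrivial (Fin d) := Fin.nontrivial_iff_two_le.2 (by omega)
          exact exists_ne j
        exact hne (by rw [vA j' hj' h, if_neg hj]; rfl)
    · by_cases hi : 1 ≤ δ (A i)
      · obtain ⟨y, hy⟩ := eq_pair hi hd
        have hyd : y.val ≤ n - d := by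
          by_contra hh
          have := h ⟨y.val - (n + 1 - d), by omega⟩
          rw [show B ⟨y.val - (n + 1 - d), by omega⟩ = y from Fin.ext (by simp [B, ixB]; omega), hy] at this
          simp at this
        have hrep := hz (.inr (j, ⟨y.val, by omega⟩))
        simp only [rep, yB, Fin.eta] at hrep
        by_cases hi0 : i = i0
        · subst hi0; rw [hy] at hne; exact hne hrep
        · have := vB i0 (Ne.symm hi0) h
          rw [if_pos hi, hy, show Finsupp.single (A i) 1 + Finsupp.single y 1 + e (A i0) - e (A i) = e (A i0) + e y by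
            rw [show Finsupp.single (A i) 1 + Finsupp.single y 1 + e (A i0) = e (A i0) + e y + e (A i) by
              simp only [e]; abel, add_tsub_cancel_right], hrep] at this
          rw [hy] at hne; exact hne this
      · obtain ⟨i', hi'⟩ : ∃ i', i' ≠ i := by
          haveI : Nontrivial (Fin c) := Fin.nontrivial_iff_two_le.2 (by omega)
          exact exists_ne i
        exact hne (by rw [vB i' hi' h, if_neg hi]; rfl)

theorem idl_planes (hc : 2 ≤ c) (hcd : c ≤ d) (hn : c + d ≤ n) :
    idl k (planeGen (show c ≤ n by omega) (show d ≤ n by omega)) =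
      Ideal.span {f : MvPolynomial (Fin (n + 1)) k | ∃ i j : Fin (n + 1), i.val + 1 ≤ c ∧ n + 1 ≤ j.val + d ∧
        f = MvPolynomial.X i * MvPolynomial.X j} := by
  rw [idl]
  congr 1
  ext f
  have hm : ∀ x : Fin c × Fin d, (monomial (planeGen (show c ≤ n by omega) (show d ≤ n by omega) x) (1 : k) :
      MvPolynomial (Fin (n + 1)) k) = MvPolynomial.X (ixA (by omega) x.1) * MvPolynomial.X (ixB (by omega) x.2) := by
    intro x
    simp only [MvPolynomial.X, monomial_mul, one_mul]; rfl
  constructor
  · rintro ⟨_, ⟨x, rfl⟩, rfl⟩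
    exact ⟨_, _, by simp [ixA] <;> omega, by simp [ixB] <;> omega, hm x⟩
  · rintro ⟨i, j, hi, hj, rfl⟩
    refine ⟨_, ⟨(⟨i.val, hi⟩, ⟨j.val - (n + 1 - d), by omega⟩), rfl⟩, (hm _).trans ?_⟩
    congr 2
    exact Fin.ext (by simp [ixB]; omega)

end Groth.Agent.HilbTwoBlock
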